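import Cfsg.Agent.Nodes.ChartLoc
import Cfsg.Agent.Nodes.Ty

/-!
# Typed charts with `|VV r|` (R18, Z3, branch (B))

`TyD Om D q τ k` : `D` has a chart of type `τ` with `Z r = X r`, `⟨Z r, Z (-r)⟩ ≃ SL₂(q)` and `|VV r| = q ^ k` for
`r ∈ R`.
-/

set_option autoImplicit false

namespace Cfsg.Agent.Cit.TwoTy

open Subgroup Cfsg Cfsg.Agent.Nodes.Chart

/-- `D` has a chart of type `τ` over the field of order `q`, with `Z r = X r`, `|VV r| = q ^ k` -/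
def TyD {Y : Type*} [Group Y] (Om : Set (Subgroup Y)) (D : Subgroup Y) (q : ℕ) (τ : Nodes.Chart.Ty) (k : ℕ) : Prop :=
  ∃ (F : Type) (_ : Field F) (_ : Fintype F) (p : ℕ) (_ : CharP F p) (c : Chart Om p D),
    Fintype.card F = q ∧ Odd q ∧ c.IsTy τ ∧ (∀ r ∈ c.R, c.Z r = c.X r) ∧
    (∀ r ∈ c.R, Nonempty (Matrix.SpecialLinearGroup (Fin 2) F ≃* ↥(c.Z r ⊔ c.Z (-r)))) ∧
    ∀ r ∈ c.R, Nat.card (Nodes.ChartLoc.VV c.cs c.h c.X r) = q ^ k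

end Cfsg.Agent.Cit.TwoTy
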