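import Cfsg.Agent.Cit.TwoBlk
import Cfsg.Agent.Cit.HexFactBMain
import Cfsg.Agent.Cit.TypeDet.Mathieu

/-!
# Two commuting members with one involution in `D / Z(D) = G₂(q)`, `³D₄(q)`, `M₁₁` (R18, Z3, branch (B))

helper624's orders (E1)-(E3) of #14298:
* `Blk.exc_false` : `D / Z(D) = G₂(q)`, `³D₄(q)`, `x ∈ K`, `y ∈ K'` of order 4: `x y` centralises a member in `D`;
* `Blk.exc_center` : `D / Z(D) = G₂(q)`, `³D₄(q)`: `Z(D) = 1`;
* `Blk.mathieu_false` : `D / Z(D) ≠ M₁₁`.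
-/

set_option autoImplicit false
set_option linter.style.haveILetI false
set_option linter.unusedSectionVars false

namespace Cfsg.Agent.Cit.TwoTy

open Subgroup Cfsg OneBasic UseT SubCent TwoBlk HexBase
open Cfsg.Agent.Cit.TypeDet (cm)

universe u

/-! ### `G₂(q)`, `³D₄(q)`: the subnormal subgroups of `C(z)` -/

section Hex

variable {X : Type u} [Group X] [Finite X] {p : ℕ}

/-- the two subgroups over `w` -/
theorem exists_hex (hp : p.Prime) (hp2 : p ≠ 2) (hX : IsG2D4 p X) {w : X} (h1 : w * w = 1) (h2 : w ≠ 1) :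
    ∃ A B : Subgroup X, (∀ K, Mem X K w → K = A ∨ K = B) ∧
      (∀ g, g * w = w * g → ∀ x ∈ A, g * x * g⁻¹ ∈ A) ∧ (∀ g, g * w = w * g → ∀ x ∈ B, g * x * g⁻¹ ∈ B) := by
  obtain ⟨F, i1, i2, i3, h⟩ := id hX
  have hF2 : (2 : F) ≠ 0 := two_ne_of_char hp hp2
  have key : ∀ {E : Type} [Field E] [Finite E] (σ : E ≃+* E) (L : Type) [Group L] [Finite L] (c : HexGrp σ L)
      (_ : (2 : E) ≠ 0) (_ : X ≃* L), ∃ A B : Subgroup X, (∀ K, Mem X K w → K = A ∨ K = B) ∧
      (∀ g, g * w = w * g → ∀ x ∈ A, g * x * g⁻¹ ∈ A) ∧ (∀ g, g * w = w * g → ∀ x ∈ B, g * x * g⁻¹ ∈ B) := by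
    intro E _ _ σ L _ _ c hE e
    obtain ⟨a, ha⟩ := c.hone hE (e w) c.z (by rw [← map_mul, h1, map_one]) (by simpa using h2) c.z_sq (c.z_ne hE)
    obtain ⟨f, hf⟩ : ∃ f : X ≃* L, f w = c.z := ⟨e.trans (MulAut.conj a), by simpa using ha⟩
    have hcom : ∀ g, g * w = w * g → f g * c.z = c.z * f g := fun g hg => by
      rw [← hf, ← map_mul, hg, map_mul]
    refine ⟨c.K1.comap f.toMonoidHom, c.K4.comap f.toMonoidHom, ?_, ?_, ?_⟩
    · intro K hK
      have h3 := hK.equiv f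
      rw [hf] at h3
      rcases c.eq_K1_or_eq_K4 hE h3.ty h3.le h3.sub with h4 | h4
      · exact Or.inl (by rw [← h4, comap_map_eq_self_of_injective f.injective])
      · exact Or.inr (by rw [← h4, comap_map_eq_self_of_injective f.injective])
    · intro g hg x hx
      have h3 := c.nml1 hE (hcom g hg) hx
      change f (g * x * g⁻¹) ∈ c.K1
      rw [map_mul, map_mul, map_inv]
      exact h3
    · intro g hg x hx
      have h3 := c.nml4 hE (hcom g hg) hx
      change f (g * x * g⁻¹) ∈ c.K4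
      rw [map_mul, map_mul, map_inv]
      exact h3
  rcases h with ⟨⟨e⟩⟩ | ⟨q, hq, hc, ⟨e⟩⟩
  · have : Finite ↥(Lie.chevG2.group F) := Finite.of_equiv _ e.toEquiv
    exact key _ _ (HexG2.g2 F hF2) hF2 e
  · have : Finite ↥(Lie.twistedD4 F q) := Finite.of_equiv _ e.toEquiv
    obtain ⟨σ, -, ⟨c⟩⟩ := HexD4.exists_d4 hc
    exact key _ _ c hF2 e

/-- `K` is normal in `C(w)` -/
theorem hex_cj (hp : p.Prime) (hp2 : p ≠ 2) (hX : IsG2D4 p X) {w : X} {K : Subgroup X} (hK : Mem X K w) {g : X}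
    (hg : g * w = w * g) : cj g K = K := by
  obtain ⟨A, B, h1, hA, hB⟩ := exists_hex hp hp2 hX hK.sq hK.ne
  have key : ∀ g, g * w = w * g → cj g K ≤ K := by
    rintro g hg _ ⟨x, hx, rfl⟩
    rcases h1 K hK with h3 | h3
    · rw [h3] at hx ⊢
      exact hA g hg x hx
    · rw [h3] at hx ⊢
      exact hB g hg x hx
  apply le_antisymm (key g hg)
  have hg' : g⁻¹ * w = w * g⁻¹ := by
    rw [inv_mul_eq_iff_eq_mul, ← mul_assoc, hg, mul_inv_cancel_right]
  have h2 := cj_mono g (key g⁻¹ hg')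
  rwa [cj_cj_inv] at h2

/-- at most two subgroups -/
theorem hex_three (hp : p.Prime) (hp2 : p ≠ 2) (hX : IsG2D4 p X) {w : X} {K J M : Subgroup X} (hK : Mem X K w)
    (hJ : Mem X J w) (hM : Mem X M w) : K = J ∨ K = M ∨ J = M := by
  obtain ⟨A, B, h1, -, -⟩ := exists_hex hp hp2 hX hK.sq hK.ne
  rcases h1 K hK with a | a <;> rcases h1 J hJ with b | b <;> rcases h1 M hM with d | d
  · exact Or.inl (a.trans b.symm)
  · exact Or.inl (a.trans b.symm)
  · exact Or.inr (Or.inl (a.trans d.symm))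
  · exact Or.inr (Or.inr (b.trans d.symm))
  · exact Or.inr (Or.inr (b.trans d.symm))
  · exact Or.inr (Or.inl (a.trans d.symm))
  · exact Or.inl (a.trans b.symm)
  · exact Or.inl (a.trans b.symm)

end Hex

/-! ### Two commuting members: the order -/

theorem card_gq {G : Type*} [Group G] {Q : Subgroup G} (h : IsGQ Q) : ∃ n : ℕ, Nat.card Q = 2 ^ (n + 3) := by
  obtain ⟨n, ⟨e⟩⟩ := h
  haveI : NeZero (2 ^ (n + 1)) := ⟨by positivity⟩
  refine ⟨n, ?_⟩
  rw [Nat.card_congr e.toEquiv, Nat.card_eq_fintype_card, QuaternionGroup.card]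
  ring

/-- central elements of a quaternion group -/
theorem eq_z_of_comm {G : Type*} [Group G] {Q : Subgroup G} {c v z : G} {n : ℕ} (hq : GQ Q c v z n) {a : G}
    (ha : a ∈ Q) (hc : ∀ q ∈ Q, a * q = q * a) : a = 1 ∨ a = z := by
  by_cases h4 : a = 1
  · exact Or.inl h4
  right
  refine hq.eq_z ha ?_ h4
  rcases hq.cov a ha with ⟨i, rfl⟩ | ⟨i, rfl⟩
  · have h5 := hq.conj_pow i
    rw [← hc v hq.v_mem] at h5
    have h6 : c ^ i = (c ^ i)⁻¹ := mul_right_cancel h5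
    rw [mul_eq_one_iff_eq_inv]
    exact h6
  · exfalso
    apply hq.not_comm
    have h5 := (hc c hq.c_mem).symm
    have h6 : c * v * c ^ i = v * c * c ^ i := by
      calc c * v * c ^ i = c * (v * c ^ i) := by group
        _ = v * c ^ i * c := h5
        _ = v * (c ^ i * c) := by group
        _ = v * (c * c ^ i) := by rw [(Commute.refl c).pow_left i |>.eq]
        _ = _ := by group
    exact (mul_right_cancel h6).symm

/-- two commuting members: `32` divides the order -/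
theorem dvd_card_of_two {L : Type*} [Group L] [Finite L] {Om : Set (Subgroup L)} (h : Hyp Om) {K K' : Subgroup L}
    (hK : K ∈ Om) (hK' : K' ∈ Om) (hc : ∀ x ∈ K, ∀ y ∈ K', x * y = y * x) : 32 ∣ Nat.card L := by
  obtain ⟨Q, hQ⟩ := Hyp.exists_syl K
  obtain ⟨Q', hQ'⟩ := Hyp.exists_syl K'
  obtain ⟨c, v, n, gq⟩ := h.exists_gq hK hQ
  obtain ⟨a, ha⟩ := card_gq (h.isGQ hK hQ)
  obtain ⟨b, hb⟩ := card_gq (h.isGQ hK' hQ')
  have hcom : ∀ (x : Q) (y : Q'), Commute (Q.subtype x) (Q'.subtype y) := fun x y =>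
    hc _ (hQ.1 x.2) _ (hQ'.1 y.2)
  obtain ⟨f, hf⟩ : ∃ f : Q × Q' →* L, ∀ x, f x = (x.1 : L) * x.2 :=
    ⟨MonoidHom.noncommCoprod Q.subtype Q'.subtype hcom, fun x => rfl⟩
  have h1 : Nat.card f.ker * Nat.card f.range = 2 ^ (a + b + 6) := by
    rw [← index_ker f, card_mul_index, Nat.card_prod, ha, hb]
    ring
  have h2 : Nat.card f.ker ≤ 2 := by
    classical
    have key : ∀ x : f.ker, ((x.1.1 : L) = 1 ∨ (x.1.1 : L) = zz K) ∧ (x.1.2 : L) = ((x.1.1 : L))⁻¹ := by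
      rintro ⟨⟨x, y⟩, hxy⟩
      rw [MonoidHom.mem_ker, hf] at hxy
      change (x : L) * y = 1 at hxy
      have h4 : (y : L) = (x : L)⁻¹ := eq_inv_of_mul_eq_one_right hxy
      refine ⟨eq_z_of_comm gq x.2 fun q hq => ?_, h4⟩
      have h3 := hc q (hQ.1 hq) y (hQ'.1 y.2)
      change (x : L) * q = q * x
      rw [h4] at h3
      calc (x : L) * q = x * (q * (x : L)⁻¹) * x := by group
        _ = x * ((x : L)⁻¹ * q) * x := by rw [h3]
        _ = q * x := by group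
    have hi : Function.Injective (fun x : f.ker => decide ((x.1.1 : L) = 1)) := by
      intro x y hxy
      have h3 : (x.1.1 : L) = y.1.1 := by
        by_cases h4 : (x.1.1 : L) = 1
        · have h5 : (y.1.1 : L) = 1 := by simpa [h4] using hxy
          rw [h4, h5]
        · have h5 : ¬ (y.1.1 : L) = 1 := by simpa [h4] using hxy
          rw [(key x).1.resolve_left h4, (key y).1.resolve_left h5]
      apply Subtype.ext
      apply Prod.ext
      · exact Subtype.ext h3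
      · exact Subtype.ext (by rw [(key x).2, (key y).2, h3])
    have := Nat.card_le_card_of_injective _ hi
    simpa using this
  have h3 : Nat.card f.range ∣ 2 ^ (a + b + 6) := by rw [← h1]; exact dvd_mul_left _ _
  obtain ⟨r, -, hr⟩ := (Nat.dvd_prime_pow Nat.prime_two).1 h3
  have h4 : 2 ^ (a + b + 6) ≤ 2 ^ (r + 1) := by
    rw [← h1, hr, pow_succ, mul_comm]
    exact Nat.mul_le_mul_left _ h2
  have h5 : a + b + 6 ≤ r + 1 := (Nat.pow_le_pow_iff_right (by norm_num)).1 h4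
  have h6 : 32 ∣ 2 ^ r := by
    rw [show (32 : ℕ) = 2 ^ 5 by norm_num]
    exact pow_dvd_pow 2 (by omega)
  exact (h6.trans hr.symm.dvd).trans (card_subgroup_dvd_card _)

/-! ### Blocks -/

section Blk

variable {Y : Type u} [Group Y] [Finite Y] {F : Set (Subgroup Y)} {D K K' : Subgroup Y} {p : ℕ}

theorem zz_D (b : Blk F D K K') {J : Subgroup D} (hJ : J ∈ restr F D) : ((zz J : D) : Y) = zz (J.map D.subtype) :=
  zz_map b.le.hyp hJ

theorem mem_img (b : Blk F D K K') {J : Subgroup D} (hJ : J ∈ restr F D) :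
    Mem (D ⧸ center D) (J.map (Blk.pi D)) (Blk.pi D (zz J)) := by
  have h1 : Ty (J.map (Blk.pi D)) := CoreTwoNe.ty_of_equiv_inf (Ty.restr b.ty D J hJ) (b.cenC.inf J hJ)
  have h2 := mem_of_hyp b.cenC.hyp (⟨J, hJ, rfl⟩ : J.map (Blk.pi D) ∈ img (Blk.pi D) (restr F D)) h1.isType
  rwa [b.cenC.zz_map hJ] at h2

/-- a product of two commuting elements of order 4 in `K`, `K'` is not central -/
theorem not_center (b : Blk F D K K') {x y : D} (hx : (x : Y) ∈ K) (hx4 : orderOf (x : Y) = 4) (hy : (y : Y) ∈ K') :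
    x * y ∉ center D := by
  intro hc
  have h4 : IsPGroup 2 (zpowers (x : Y)) := by
    rw [IsPGroup.iff_card]
    exact ⟨2, by rw [Nat.card_zpowers, hx4]; norm_num⟩
  obtain ⟨Q, hQ, hxQ⟩ := exists_syl_ge h4 (zpowers_le.2 hx : zpowers (x : Y) ≤ K)
  refine b.le.hyp.not_cent_of_four b.hK hQ (hxQ (mem_zpowers _)) hx4 fun q hq => ?_
  have hqK := hQ.1 hq
  have h1 := congrArg Subtype.val (mem_center_iff.1 hc ⟨q, b.KD hqK⟩)
  simp only [coe_mul] at h1
  have h2 := b.comm q hqK y hy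
  have h3 : q * (x : Y) * y = (x : Y) * q * y := by
    calc q * (x : Y) * y = q * ((x : Y) * y) := by group
      _ = (x : Y) * y * q := h1
      _ = (x : Y) * (y * q) := by group
      _ = (x : Y) * (q * y) := by rw [h2]
      _ = _ := by group
  exact (mul_right_cancel h3).symm

/-- (E1) -/
theorem _root_.Cfsg.Agent.Cit.TwoBlk.Blk.exc_false (b : Blk F D K K') (hp : p.Prime) (hp2 : p ≠ 2) (iso : IsG2D4 p (D ⧸ center D)) {x y : Y}
    (hx : x ∈ K) (hx4 : orderOf x = 4) (hy : y ∈ K') (hy4 : orderOf y = 4)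
    (hno : ∀ M ∈ F, M ≤ D → ¬ ∀ a ∈ M, (x * y) * a = a * (x * y)) : False := by
  have hKm := Blk.sub_mem b.hK b.KD
  have hm := mem_img b hKm
  obtain ⟨x0, hx0⟩ : ∃ x0 : D, (x0 : Y) = x := ⟨⟨x, b.KD hx⟩, rfl⟩
  obtain ⟨y0, hy0⟩ : ∃ y0 : D, (y0 : Y) = y := ⟨⟨y, b.KD' hy⟩, rfl⟩
  subst hx0 hy0
  have hxy := b.comm _ hx _ hy
  have hsx := b.le.hyp.sq_eq_zz b.hK hx hx4
  have hsy := b.le.hyp.sq_eq_zz b.hK' hy hy4
  have hzz := b.zz_eq
  have hsq : (x0 * y0) * (x0 * y0) = 1 := by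
    apply Subtype.ext
    simp only [coe_mul, coe_one]
    calc (x0 : Y) * y0 * (x0 * y0) = x0 * (y0 * x0) * y0 := by group
      _ = x0 * (x0 * y0) * y0 := by rw [hxy]
      _ = (x0 * x0) * (y0 * y0) := by group
      _ = zz K * zz K := by rw [hsx, hsy, hzz]
      _ = 1 := b.le.hyp.zz_mul b.hK
  have hne : Blk.pi D (x0 * y0) ≠ 1 := by
    intro h1
    refine not_center b hx hx4 hy ?_
    rw [← QuotientGroup.ker_mk' (center D)]
    exact MonoidHom.mem_ker.2 h1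
  obtain ⟨-, -, K2, h2, -⟩ := facts_of_iso HexFactBMain.h4_all HexFactBMain.h5_all ⟨p, hp, hp2, iso⟩ hm
  obtain ⟨g, hg⟩ := h2.one _ (Blk.pi D (x0 * y0)) hm.sq hm.ne (by rw [← map_mul, hsq, map_one]) hne
  obtain ⟨g, rfl⟩ := QuotientGroup.mk'_surjective (center D) g
  obtain ⟨ζ, hζ, hz⟩ : ∃ ζ ∈ center D, x0 * y0 = g * zz (K.subgroupOf D) * g⁻¹ * ζ := by
    refine ⟨(g * zz (K.subgroupOf D) * g⁻¹)⁻¹ * (x0 * y0), ?_, by group⟩
    rw [← QuotientGroup.ker_mk' (center D), MonoidHom.mem_ker, map_mul, map_inv, map_mul, map_mul, map_inv, hg,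
      inv_mul_cancel]
  refine hno (cj (g : Y) K) (b.le.hyp.conj _ b.hK _) ?_ ?_
  · rintro _ ⟨k, hk, rfl⟩
    exact D.mul_mem (D.mul_mem g.2 (b.KD hk)) (D.inv_mem g.2)
  · rintro _ ⟨k, hk, rfl⟩
    simp only [MulEquiv.coe_toMonoidHom, MulAut.conj_apply]
    have hzk : zz K * k = k * zz K := (mem_centralizer_singleton_iff.1 (b.le.hyp.le_centralizer b.hK hk)).symm
    have hz1 := zz_D b hKm
    rw [map_subgroupOf_eq_of_le b.KD] at hz1
    have e1 : (x0 : Y) * y0 = g * zz K * (g : Y)⁻¹ * ζ := by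
      have := congrArg Subtype.val hz
      simpa only [coe_mul, coe_inv, hz1] using this
    have hζ' : ∀ d ∈ D, d * (ζ : Y) = ζ * d := fun d hd => congrArg Subtype.val (mem_center_iff.1 hζ ⟨d, hd⟩)
    have hgk : (g : Y) * k * (g : Y)⁻¹ ∈ D := D.mul_mem (D.mul_mem g.2 (b.KD hk)) (D.inv_mem g.2)
    rw [e1]
    calc g * zz K * (g : Y)⁻¹ * ζ * (g * k * (g : Y)⁻¹) = g * zz K * (g : Y)⁻¹ * (ζ * (g * k * (g : Y)⁻¹)) := by group
      _ = g * zz K * (g : Y)⁻¹ * (g * k * (g : Y)⁻¹ * ζ) := by rw [hζ' _ hgk]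
      _ = g * (zz K * k) * (g : Y)⁻¹ * ζ := by group
      _ = g * (k * zz K) * (g : Y)⁻¹ * ζ := by rw [hzk]
      _ = _ := by group

/-- conjugate members in `D` with the same involution are equal -/
theorem exc_cj (b : Blk F D K K') (hp : p.Prime) (hp2 : p ≠ 2) (iso : IsG2D4 p (D ⧸ center D)) {J : Subgroup D}
    (hJ : J ∈ restr F D) {g : D} (hg : zz (cj g J) = zz J) : cj g J = J := by
  have hc := b.cenC
  have h1 : g * zz J = zz J * g := by
    rw [hc.two.hyp.zz_cj hJ, mul_inv_eq_iff_eq_mul] at hg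
    exact hg
  have h2 := hex_cj hp hp2 iso (mem_img b hJ) (g := Blk.pi D g) (by rw [← map_mul, h1, map_mul])
  rw [← cj_map] at h2
  -- `J` is generated by its elements of odd order
  have key : ∀ A B : Subgroup D, A ∈ restr F D → B ∈ restr F D → A.map (Blk.pi D) = B.map (Blk.pi D) → A ≤ B := by
    intro A B hA hB hAB
    refine (hc.ty A hA).trans ((closure_le _).2 ?_)
    rintro a ⟨ha, hao⟩
    have h3 : Blk.pi D a ∈ B.map (Blk.pi D) := by rw [← hAB]; exact ⟨a, ha, rfl⟩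
    obtain ⟨c, hcB, hca⟩ := h3
    have hco : Odd (orderOf c) := by
      have h4 := QuoCen.orderOf_map (hc.inf B hB) hcB
      rw [hca, QuoCen.orderOf_map (hc.inf A hA) ha] at h4
      rwa [← h4]
    have hζ : c⁻¹ * a ∈ center D := by
      rw [← QuotientGroup.ker_mk' (center D), MonoidHom.mem_ker, map_mul, map_inv]
      have : Blk.pi D c = Blk.pi D a := hca
      rw [show (QuotientGroup.mk' (center D)) c = (QuotientGroup.mk' (center D)) a from this, inv_mul_cancel]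
    have hcm : Commute c a := by
      have h5 := mem_center_iff.1 hζ c
      have h6 : a = c * (c⁻¹ * a) := by group
      change c * a = a * c
      calc c * a = c * (c * (c⁻¹ * a)) := by group
        _ = c * ((c⁻¹ * a) * c) := by rw [h5]
        _ = _ := by group
    have hodd : Odd (orderOf (c⁻¹ * a)) := by
      have h5 : (c⁻¹ * a) ^ (orderOf c * orderOf a) = 1 := by
        rw [(hcm.inv_left).mul_pow, inv_pow, pow_mul, pow_orderOf_eq_one, one_pow, inv_one, one_mul, mul_comm, pow_mul,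
          pow_orderOf_eq_one, one_pow]
      exact Odd.of_dvd_nat (hco.mul hao) (orderOf_dvd_of_pow_eq_one h5)
    have h6 : c⁻¹ * a = 1 := by
      obtain ⟨k, hk⟩ := b.cen ⟨c⁻¹ * a, hζ⟩
      have h7 : orderOf (c⁻¹ * a) ∣ 2 ^ k := orderOf_dvd_of_pow_eq_one (congrArg Subtype.val hk)
      obtain ⟨m, -, hm⟩ := (Nat.dvd_prime_pow Nat.prime_two).1 h7
      rw [hm] at hodd
      have h8 : m = 0 := by
        by_contra h9
        exact (Nat.not_even_iff_odd.2 hodd) ((Nat.even_pow.2 ⟨even_two, h9⟩))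
      rw [h8, pow_zero] at hm
      exact orderOf_eq_one_iff.1 hm
    rw [inv_mul_eq_one] at h6
    exact h6 ▸ hcB
  have hJ' := hc.two.hyp.conj J hJ g
  exact le_antisymm (key _ _ hJ' hJ h2) (key _ _ hJ hJ' h2.symm)

/-- (E2) -/
theorem _root_.Cfsg.Agent.Cit.TwoBlk.Blk.exc_center (b : Blk F D K K') (hp : p.Prime) (hp2 : p ≠ 2) (iso : IsG2D4 p (D ⧸ center D)) :
    center D = ⊥ := by
  have hc := b.cenC
  have hKm := Blk.sub_mem b.hK b.KD
  obtain ⟨J0, hJ0⟩ : ∃ J0, J0 = K.subgroupOf D := ⟨_, rfl⟩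
  rw [← hJ0] at hKm
  have hsub : {J : Subgroup D | ∃ g, cj g J0 = J} ⊆ restr F D := by
    rintro _ ⟨g, rfl⟩
    exact hc.two.hyp.conj _ hKm g
  have hyp : Hyp {J : Subgroup D | ∃ g, cj g J0 = J} := QuoCen.hyp_subset hc.two.hyp hsub (by
    rintro _ ⟨g, rfl⟩ g'
    exact ⟨g' * g, cj_mul _ _ _⟩)
  have one : One {J : Subgroup D | ∃ g, cj g J0 = J} := by
    refine ⟨hyp, ?_⟩
    rintro S hS _ ⟨⟨g, rfl⟩, h1⟩ _ ⟨⟨g', rfl⟩, h2⟩
    have hz := hc.two.zz_eq hS (K := cj g J0) (L := cj g' J0) ⟨hsub ⟨g, rfl⟩, h1⟩ ⟨hsub ⟨g', rfl⟩, h2⟩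
    have e1 : cj (g' * g⁻¹) (cj g J0) = cj g' J0 := by
      rw [cj_mul, cj_inv_cj]
    rw [← e1]
    exact (exc_cj b hp hp2 iso (hsub ⟨g, rfl⟩) (by rw [e1, hz])).symm
  have hm := mem_img b hKm
  have q : TwoB.QOne {J : Subgroup D | ∃ g, cj g J0 = J} := by
    refine ⟨one, b.qs, b.cen, ⟨J0, 1, cj_one _⟩, ?_⟩
    rintro ⟨g, hg⟩
    refine b.nz _ (b.le.hyp.conj _ b.hK g) ?_ ?_
    · rintro _ ⟨k, hk, rfl⟩
      exact D.mul_mem (D.mul_mem g.2 (b.KD hk)) (D.inv_mem g.2)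
    · intro x hx
      have h1 : cj (g : Y) K = D := by
        have h2 := congrArg (Subgroup.map D.subtype) hg
        rw [hJ0, cj_map, map_subgroupOf_eq_of_le b.KD, ← MonoidHom.range_eq_map, range_subtype] at h2
        exact h2
      have h3 := b.le.hyp.le_centralizer (b.le.hyp.conj _ b.hK g) (h1 ▸ hx)
      exact mem_centralizer_singleton_iff.1 h3
  obtain ⟨-, -, K2, h2, h3⟩ := facts_of_iso HexFactBMain.h4_all HexFactBMain.h5_all ⟨p, hp, hp2, iso⟩ hm
  exact q.center_eq_bot_of_twoFac ⟨1, cj_one _⟩ h2 h3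

/-- (E3) -/
theorem _root_.Cfsg.Agent.Cit.TwoBlk.Blk.mathieu_false (b : Blk F D K K') (iso : Spor.IsoM11 (D ⧸ center D)) : False := by
  obtain ⟨e⟩ := iso
  have h1 : 32 ∣ Nat.card (D ⧸ center D) := by
    refine dvd_card_of_two b.cenC.hyp ⟨_, Blk.sub_mem b.hK b.KD, rfl⟩ ⟨_, Blk.sub_mem b.hK' b.KD', rfl⟩ ?_
    rintro _ ⟨x, hx, rfl⟩ _ ⟨y, hy, rfl⟩
    have h2 : x * y = y * x := Subtype.ext (b.comm _ hx _ hy)
    rw [← map_mul, h2, map_mul]
  rw [Nat.card_congr e.toEquiv, TypeDet.card_M11'] at h1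
  norm_num at h1

end Blk

end Cfsg.Agent.Cit.TwoTy
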