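import Cfsg.Agent.Cit.TwoTy.GoodBOf
import Cfsg.Agent.Cit.FC.SideChart

/-!
# Elements centralising the lift of a piece (R18, Z3, branch (B))

`K ∈ Om`, `K ≤ H`, `bar K ≤ D'` (a piece of `H / O(H)` with a chart), `X`, `Y` two root groups of `K`. An element of `H`
centralising `X`, `Y` and `⁅O(C(X)) ⊓ H, z⁆`, `⁅O(C(Y)) ⊓ H, z⁆` centralises the lift `DL Om H D'`.
-/

set_option autoImplicit false
set_option linter.style.haveILetI false
set_option linter.unusedSectionVars false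

namespace Cfsg.Agent.Cit.TwoTy

open Subgroup Cfsg Cfsg.Agent.Cit.UseT Cfsg.Agent.Cit.PieceG Cfsg.Agent.Cit.PieceLoc Cfsg.Agent.Cit.FrameOf
open Cfsg.Agent.Nodes.Chart Cfsg.Agent.Nodes.ChartLoc Cfsg.Agent.Cit.ParabSL2
open scoped commutatorElement

section Gen

open CoxeterSystem Cfsg.Agent.ChevalleyStructure.CoxeterGeom Cfsg.Agent.Tits.Roots Cfsg.Agent.Tits.Core
  Cfsg.Agent.Tits.RootComb Cfsg.Agent.Tits.Exchange Cfsg.Agent.Nodes.Comb Cfsg.Agent.Nodes.StabComb Cfsg.Agent.Nodes.Bruhat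
  Cfsg.Agent.Nodes.LeviDec

variable {Y : Type*} [Group Y] [Finite Y] {Om : Set (Subgroup Y)} {p : ℕ} {D : Subgroup Y}

/-- a quasisimple chart group is generated by `VV r`, `VV (-r)` -/
theorem le_VV_sup (c : Chart Om p D) (hq : IsQuasisimple D) {r : c.I → ℤ} (hr : r ∈ c.R) :
    D ≤ VV c.cs c.h c.X r ⊔ VV c.cs c.h c.X (-r) := by
  haveI : Fact p.Prime := ⟨c.prime⟩
  obtain ⟨w, hw⟩ := Cfsg.Agent.Nodes.ClsNorm.exists_dominant (cs := c.cs) (h := c.h) r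
  obtain ⟨k, hk⟩ := Cfsg.Agent.Nodes.Reps.exists_rp c.cs c.cls.rgd.nsys w
  have hkL : k ∈ GG c.cs c.h c.T c.X := NN_le_GG c.cls.rgd ⟨_, hk⟩
  rw [GG_eq] at hkL
  have h1 := FC.le_VV_sup c.odd c.cls (GG_eq c) hq (c.cls.act r hr w) hw
  rw [← map_neg, ← cj_VV c.cls hk r, ← cj_VV c.cls hk (-r), GenChart.rcj_eq, GenChart.rcj_eq, ← cj_sup] at h1
  have h2 := cj_mono k⁻¹ h1
  rwa [cj_inv_cj, mem_normalizer_iff_cj.1 (le_normalizer (inv_mem hkL))] at h2

theorem VV_le_GG' (c : Chart Om p D) (r : c.I → ℤ) : VV c.cs c.h c.X r ≤ D := by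
  have h1 := VV_le_GG c.cls r
  rwa [GG_eq] at h1

end Gen

section

variable {G : Type*} [Group G] [Finite G] {Om : Set (Subgroup G)} {H : Subgroup G} {D' : Subgroup (HQ H)}

/-- if `e` normalises `x` modulo elements commuting with `e`, `z`, then `⁅e, z⁆` centralises `x` -/
theorem comm_of_form {e z x a : G} (hx : z * x = x * z) (ha : a = ⁅e, x⁆) (haz : a * z = z * a) (hae : a * e = e * a) :
    ⁅e, z⁆ * x = x * ⁅e, z⁆ := by
  have h1 : e * x = a * x * e := by rw [ha, commutatorElement_def]; group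
  have h2 : e⁻¹ * x = a⁻¹ * x * e⁻¹ := by
    rw [inv_mul_eq_iff_eq_mul, ← mul_assoc, ← mul_assoc, eq_mul_inv_iff_mul_eq, ← (show a⁻¹ * e = e * a⁻¹ by
      rw [inv_mul_eq_iff_eq_mul, ← mul_assoc, hae, mul_inv_cancel_right]), mul_assoc a⁻¹, h1, mul_assoc a x e,
      inv_mul_cancel_left]
  have hz' : z⁻¹ * x = x * z⁻¹ := by
    rw [inv_mul_eq_iff_eq_mul, ← mul_assoc, hx, mul_inv_cancel_right]
  have ha' : z * a⁻¹ = a⁻¹ * z := by
    rw [eq_inv_mul_iff_mul_eq, ← mul_assoc, haz, mul_inv_cancel_right]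
  have ha'' : e * a⁻¹ = a⁻¹ * e := by
    rw [eq_inv_mul_iff_mul_eq, ← mul_assoc, hae, mul_inv_cancel_right]
  calc ⁅e, z⁆ * x = e * z * (e⁻¹ * (z⁻¹ * x)) := by rw [commutatorElement_def]; group
    _ = e * z * (e⁻¹ * x) * z⁻¹ := by rw [hz']; group
    _ = e * (z * a⁻¹) * x * e⁻¹ * z⁻¹ := by rw [h2]; group
    _ = (e * a⁻¹) * (z * x) * e⁻¹ * z⁻¹ := by rw [ha']; group
    _ = a⁻¹ * (e * x) * z * e⁻¹ * z⁻¹ := by rw [ha'', hx]; group
    _ = x * ⁅e, z⁆ := by rw [h1, commutatorElement_def]; group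

variable {F : Type*} [Field F] [Fintype F] {p : ℕ} [CharP F p]

theorem comm_of_sq_left {g v : G} (hodd : Odd (orderOf g)) (h : g * g * v = v * (g * g)) : g * v = v * g := by
  obtain ⟨m, hm⟩ := hodd
  have h1 : g = (g * g) ^ (m + 1) := by
    have h2 : g ^ (2 * m + 1) = 1 := by rw [← hm, pow_orderOf_eq_one]
    rw [← pow_two, ← pow_mul, show 2 * (m + 1) = (2 * m + 1) + 1 by ring, pow_succ, h2, one_mul]
  have h2 : Commute (g * g) v := h
  have h3 := h2.pow_left (m + 1)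
  rw [← h1] at h3
  exact h3

/-- one side -/
theorem comm_VV (C : CorG Om H) (hD : QP Om H D') (c : Chart (fb Om H) p D') {r : c.I → ℤ} (hr : r ∈ c.R)
    (hF : Odd (Fintype.card F)) {K : Subgroup G} (hK : K ∈ Om) (hKH : K ≤ H) (hKD : bar H K ≤ D')
    (e : Matrix.SpecialLinearGroup (Fin 2) F ≃* K) {X : Subgroup G} (hXK : X ≤ K)
    (hX : Nat.card X = Fintype.card F) (hZ : c.Z r = bar H X) (hz : c.z r = qm H ⟨zz K, hKH (C.hyp.zz_mem hK)⟩)
    {b : G} (hb : b ∈ H) (hbX : ∀ x ∈ X, b * x = x * b)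
    (hbQ : ∀ x ∈ ⁅Parab.core X ⊓ H, zpowers (zz K)⁆, b * x = x * b) :
    ∀ v ∈ VV c.cs c.h c.X r, qm H ⟨b, hb⟩ * v = v * qm H ⟨b, hb⟩ := by
  haveI : Fact p.Prime := ⟨c.prime⟩
  have h := C.hyp
  have hlong : Parab.Long K X (zz K) := long_of_hyp h hK hF e hXK hX
  have hzH : zz K ∈ H := hKH (h.zz_mem hK)
  set β := qm H ⟨b, hb⟩ with hβ
  have hβZ : ∀ y ∈ c.Z r, β * y = y * β := by
    rw [hZ]
    rintro _ ⟨x, hx, rfl⟩
    rw [hβ, ← map_mul, ← map_mul]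
    congr 1
    exact Subtype.ext (hbX _ hx)
  have hodd := odd_card_VV c.cls c.odd r
  -- one step
  have step : ∀ v ∈ VV c.cs c.h c.X r, β * ⁅v, c.z r⁆ = ⁅v, c.z r⁆ * β → β * v = v * β := by
    intro v hv h1
    have h2 := FC.inverts_VV c.odd c.cls hr _ (inv_mem hv)
    have h3 : ⁅v, c.z r⁆ = (v * (c.z r * v⁻¹ * (c.z r)⁻¹ * v⁻¹) * v⁻¹) * (v * v) := by
      rw [commutatorElement_def]; group
    have h4 : v * (c.z r * v⁻¹ * (c.z r)⁻¹ * v⁻¹) * v⁻¹ = c.z r * v⁻¹ * (c.z r)⁻¹ * v⁻¹ := by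
      rw [mul_inv_eq_iff_eq_mul]
      exact (VV_comm c.cls hr h2 hv).symm
    rw [h4] at h3
    have h5 := hβZ _ h2
    set ζ := c.z r * v⁻¹ * (c.z r)⁻¹ * v⁻¹ with hζ
    have h6 : β * (v * v) = v * v * β := by
      have h7 : ζ * (β * (v * v)) = ζ * (v * v * β) := by
        rw [← mul_assoc, ← h5, mul_assoc, ← h3, h1, h3, mul_assoc]
      exact mul_left_cancel h7
    exact (comm_of_sq_left (odd_orderOf (fun h7 => by
      rw [← Nat.not_even_iff_odd] at hodd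
      exact hodd (even_iff_two_dvd.2 h7)) hv) h6.symm).symm
  intro v hv
  -- a lift of `v`
  obtain ⟨l, hl, hlv⟩ := DL_cover C hD (VV_le_GG' c r hv)
  have hzD := zz_mem_DL h hK hKH hKD
  have hcen : ∀ a ∈ OO H, ∀ l ∈ DL Om H D', a * l = l * a := fun a ha l hl => (DL_comm_core C hl ha).symm
  have hw1 : ⁅(l : G), zz K⁆ ∈ centralizer (X : Set G) := by
    rw [mem_centralizer_iff]
    intro x hx
    have hxz : zz K * x = x * zz K := (mem_centralizer_singleton_iff.1 (h.le_centralizer hK (hXK hx))).symm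
    have ha : ⁅(l : G), x⁆ ∈ OO H := by
      have h1 : qm H ⁅l, ⟨x, hKH (hXK hx)⟩⁆ = 1 := by
        have h2 : qm H ⟨x, hKH (hXK hx)⟩ ∈ c.Z r := by rw [hZ]; exact mem_bar hx
        rw [map_commutatorElement, hlv, commutatorElement_eq_one_iff_mul_comm]
        exact (VV_comm c.cls hr h2 hv).symm
      exact qm_eq_one_iff.1 h1
    exact (comm_of_form hxz rfl (hcen _ ha _ hzD) (hcen _ ha _ hl)).symm
  have hw2 := hlong.commutator_mem hw1
  have hw2' : ⁅⁅(l : G), zz K⁆, zz K⁆ ∈ Parab.core X ⊓ H := by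
    refine ⟨hlong.QX_le_core hw2, ?_⟩
    have h1 : ∀ a ∈ H, ⁅a, zz K⁆ ∈ H := fun a ha => by
      rw [commutatorElement_def]
      exact mul_mem (mul_mem (mul_mem ha hzH) (inv_mem ha)) (inv_mem hzH)
    exact h1 _ (h1 _ l.2)
  have hw3 := commutator_mem_commutator hw2' (mem_zpowers (zz K))
  have h1 := hbQ _ hw3
  have h2 : β * ⁅⁅⁅v, c.z r⁆, c.z r⁆, c.z r⁆ = ⁅⁅⁅v, c.z r⁆, c.z r⁆, c.z r⁆ * β := by
    rw [← hlv, hz, ← map_commutatorElement, ← map_commutatorElement, ← map_commutatorElement, hβ, ← map_mul, ← map_mul]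
    congr 1
    exact Subtype.ext h1
  have hmem : ∀ v ∈ VV c.cs c.h c.X r, ⁅v, c.z r⁆ ∈ VV c.cs c.h c.X r := by
    intro v hv
    have h3 := (mem_normalizer_iff.1 (z_mem_normalizer_VV c.cls hr) v⁻¹).1 (inv_mem hv)
    have h4 : ⁅v, c.z r⁆ = v * (c.z r * v⁻¹ * (c.z r)⁻¹) := by rw [commutatorElement_def]; group
    rw [h4]
    exact mul_mem hv h3
  exact step v hv (step _ (hmem _ hv) (step _ (hmem _ (hmem _ hv)) h2))

/-- **elements centralising the lift of a piece** -/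
theorem comm_DL (C : CorG Om H) (hD : QP Om H D') (c : Chart (fb Om H) p D') (hnm : D' ∉ fb Om H)
    (hF : Odd (Fintype.card F)) {K : Subgroup G} (hK : K ∈ Om) (hKH : K ≤ H) (hKD : bar H K ≤ D')
    (e : Matrix.SpecialLinearGroup (Fin 2) F ≃* K) {X Y : Subgroup G} (hXK : X ≤ K)
    (hX : Nat.card X = Fintype.card F) (hYK : Y ≤ K) (hY : Nat.card Y = Fintype.card F) (hne : Y ≠ X)
    {b : G} (hb : b ∈ H) (hbX : ∀ x ∈ X, b * x = x * b) (hbY : ∀ x ∈ Y, b * x = x * b)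
    (hbQ : ∀ x ∈ ⁅Parab.core X ⊓ H, zpowers (zz K)⁆, b * x = x * b)
    (hbQ' : ∀ x ∈ ⁅Parab.core Y ⊓ H, zpowers (zz K)⁆, b * x = x * b) : ∀ d ∈ DL Om H D', b * d = d * b := by
  haveI : Fact p.Prime := ⟨c.prime⟩
  obtain ⟨k, hk, r, hr, h1, h2, h3⟩ := exists_place C.hyp c hnm hF hK hKH hKD e hXK hX hYK hY hne
  set c' := conjChart c hk (fb_hyp C.hyp H).conj with hc'
  have hr' : r ∈ c'.R := hr
  have hrn : -r ∈ c'.R := Nodes.ClsNorm.neg_mem c'.cls hr'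
  have e1 := comm_VV C hD c' hr' hF hK hKH hKD e hXK hX h1 h3 hb hbX hbQ
  have e2 := comm_VV C hD c' hrn hF hK hKH hKD e hYK hY h2 ((c'.cls.z_neg r hr').trans h3) hb hbY hbQ'
  have h4 : D' ≤ centralizer {qm H ⟨b, hb⟩} := by
    refine (le_VV_sup c' hD.qs hr').trans (sup_le ?_ ?_)
    · exact fun v hv => mem_centralizer_singleton_iff.2 (e1 v hv).symm
    · exact fun v hv => mem_centralizer_singleton_iff.2 (e2 v hv).symm
  have h5 : bar H (zpowers b) ≤ centralizer (D' : Set (HQ H)) := by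
    rintro _ ⟨⟨x, hxH⟩, hx, rfl⟩
    rw [mem_centralizer_iff]
    intro d hd
    have h6 : b ∈ ((centralizer {d}).comap (qm H)).map H.subtype := by
      refine ⟨⟨b, hb⟩, ?_, rfl⟩
      exact mem_centralizer_singleton_iff.2 (mem_centralizer_singleton_iff.1 (h4 hd)).symm
    have h7 : x ∈ ((centralizer {d}).comap (qm H)).map H.subtype := (zpowers_le.2 h6) hx
    obtain ⟨y, hy, hyx⟩ := h7
    have h8 : y = ⟨x, hxH⟩ := Subtype.ext hyx
    rw [h8] at hy
    exact (mem_centralizer_singleton_iff.1 hy).symm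
  exact comm_of_bar C hD (zpowers_le.2 hb) h5 b (mem_zpowers b)

end

section

variable {G : Type*} [Group G] [Finite G] {Om : Set (Subgroup G)} {u : G} {K : Subgroup G}
  {D' : Subgroup (HQ (centralizer ({u} : Set G)))}

/-- **`CenAt`** -/
theorem cenAt (C : CorG Om (centralizer {u})) (hD : QP Om (centralizer {u}) D')
    (hn : D' ∉ fb Om (centralizer {u})) (hK : K ∈ Om) (hKu : K ≤ centralizer {u})
    (hKD : bar (centralizer {u}) K ≤ D')
    (core : ∀ J ∈ Om, J ≤ centralizer {u} → bar (centralizer {u}) J ≤ D' → OO J = ⊥) {q k : ℕ} {τ : Nodes.Chart.Ty}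
    (t : TyD (fb Om (centralizer {u})) D' q τ k) (K' : Subgroup G) : CenAt Om q K K' u D' := by
  obtain ⟨F, i1, i2, p, i3, c, hF, hodd, hτ, hZ, hsl, hV⟩ := t
  obtain ⟨e⟩ := exists_sl_member c core hsl hK hKu hKD
  intro X hXK hX Y hYK hY hne b hb hbK _ hbX hbY
  exact comm_DL C hD c hn (by rw [hF]; exact hodd) hK hKu hKD e hXK (hX.trans hF.symm) hYK (hY.trans hF.symm) hne hb
    (fun x hx => hbK x (hXK hx)) (fun x hx => hbK x (hYK hx)) hbX hbY

/-- `CenAt` from the data of the block -/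
theorem Bl.cenAt {K' : Subgroup G} (b : Bl Om u K K') {q k : ℕ} {τ : Nodes.Chart.Ty}
    (t : TyD (fam Om (centralizer {u})) (px Om (centralizer {u}) K) q τ k) :
    CenAt Om q K K' u (PT Om (centralizer {u}) K) := by
  rw [b.px_eq, FamFb.fam_eq_fb b.ty b.core] at t
  exact TwoTy.cenAt b.corG b.qp b.nmem b.hK b.le bar_le_PT (fun J hJ _ _ => b.core J hJ) t K'

end

end Cfsg.Agent.Cit.TwoTy
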