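import Cfsg.Agent.Cit.TwoTy.Lift
import Cfsg.Agent.Cit.OmB3.BGood
import Cfsg.Agent.Cit.OmB3.BCls

/-!
# Branch (B): the property `Good` of the root groups from the types in `C(u) / O(C(u))` (R18, Z3)

* `Bl` : the hypotheses on the piece of `C(u)` over `K`, `K'`;
* `Bl.corG`, `Bl.qp`, `Bl.lo`, `Bl.trCls` : `CorG`, `QP`, the structure `BGood.Lo`, `BCls.TrCls`;
* `good_of` : all root groups are good.
-/

set_option autoImplicit false
set_option linter.style.haveILetI false
set_option linter.unusedSectionVars false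

namespace Cfsg.Agent.Cit.TwoTy

open Subgroup Cfsg SubCent UseT
open Cfsg.Agent.Cit.TwoFK (TwoEq)
open Cfsg.Agent.Cit.PieceG Cfsg.Agent.Cit.FrameOf
open Cfsg.Agent.Nodes.Chart

universe u

section

variable {G : Type u} [Group G] [Finite G] {Om : Set (Subgroup G)}

/-- the data over `u` -/
structure Bl (Om : Set (Subgroup G)) (u : G) (K K' : Subgroup G) : Prop where
  hyp : Hyp Om
  ty : ∀ K ∈ Om, Ty K
  core : ∀ K ∈ Om, OO K = ⊥
  pcs : HasPieces (fam Om (centralizer {u}))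
  hK : K ∈ Om
  hK' : K' ∈ Om
  ne : K ≠ K'
  comm : ∀ k ∈ K, k * u = u * k
  comm' : ∀ k ∈ K', k * u = u * k
  cor : ∀ L ∈ Om, L ≤ centralizer {u} → ∀ d ∈ OO (centralizer {u}), ∀ l ∈ L, d * l = l * d
  px' : tr (centralizer {u}) K' ≤ px Om (centralizer {u}) K
  all : ∀ M ∈ cov Om (centralizer {u}), px Om (centralizer {u}) M = px Om (centralizer {u}) K

namespace Bl

variable {u : G} {K K' : Subgroup G}

theorem le (b : Bl Om u K K') : K ≤ centralizer {u} := fun k hk => mem_centralizer_singleton_iff.2 (b.comm k hk)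

theorem le' (b : Bl Om u K K') : K' ≤ centralizer {u} := fun k hk => mem_centralizer_singleton_iff.2 (b.comm' k hk)

theorem pcsb (b : Bl Om u K K') : HasPieces (fb Om (centralizer {u})) := by
  rw [← FamFb.fam_eq_fb b.ty b.core]
  exact b.pcs

theorem corG (b : Bl Om u K K') : CorG Om (centralizer {u}) where
  hyp := b.hyp
  cor := by
    intro L hL hLu P hPL _ p hp
    rw [mem_centralizer_iff]
    intro d hd
    exact b.cor L hL hLu d hd p (hPL hp)
  pcs := b.pcsb

theorem px_eq (b : Bl Om u K K') : px Om (centralizer {u}) K = PT Om (centralizer {u}) K :=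
  px_eq_PT b.ty b.core b.hK b.le

theorem bar_le' (b : Bl Om u K K') : bar (centralizer {u}) K' ≤ PT Om (centralizer {u}) K := by
  rw [← b.px_eq, ← FamFb.tr_eq_bar (b.ty K' b.hK') b.le']
  exact b.px'

/-- the piece is not a member -/
theorem nmem (b : Bl Om u K K') : PT Om (centralizer {u}) K ∉ fb Om (centralizer {u}) := by
  intro hm
  have hf := fb_hyp b.hyp (centralizer {u})
  have h1 : bar (centralizer {u}) K = PT Om (centralizer {u}) K := hf.eq_of_le (bar_mem b.hK b.le) hm bar_le_PT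
  have h2 : bar (centralizer {u}) K' = PT Om (centralizer {u}) K := hf.eq_of_le (bar_mem b.hK' b.le') hm b.bar_le'
  exact b.ne (PieceG.eq_of_bar_eq b.corG b.hK b.hK' b.le b.le' (h1.trans h2.symm))

theorem qp (b : Bl Om u K K') : QP Om (centralizer {u}) (PT Om (centralizer {u}) K) :=
  qp_PT b.corG b.hK b.le b.nmem

/-- all members of `C(u)` are over the piece -/
theorem hall (b : Bl Om u K K') : ∀ L ∈ Om, L ≤ centralizer {u} →
    bar (centralizer {u}) L ≤ PT Om (centralizer {u}) K := by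
  intro L hL hLu
  rw [← b.px_eq, ← b.all L (mem_cov_of_le hL hLu), ← FamFb.tr_eq_bar (b.ty L hL) hLu]
  exact tr_le_px

theorem trCls (b : Bl Om u K K') {p : ℕ}
    (c : Chart (fb Om (centralizer {u})) p (PT Om (centralizer {u}) K)) :
    OmB3.BCls.TrCls Om u (DL Om (centralizer {u}) (PT Om (centralizer {u}) K)) :=
  OmB3.BCls.trCls_DL b.corG b.qp c b.hall

end Bl

/-- the field `cen` of `BGood.Lo` -/
def CenAt (Om : Set (Subgroup G)) (q : ℕ) (K K' : Subgroup G) (u : G)
    (D' : Subgroup (HQ (centralizer ({u} : Set G)))) : Prop :=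
  ∀ X ≤ K, Nat.card X = q → ∀ Y ≤ K, Nat.card Y = q → Y ≠ X → ∀ b ∈ centralizer ({u} : Set G),
    (∀ k ∈ K, b * k = k * b) → (∀ k ∈ K', b * k = k * b) →
    (∀ x ∈ LemmaUQ.Qw (Parab.core X) (zz K) u, b * x = x * b) → (∀ x ∈ LemmaUQ.Qw (Parab.core Y) (zz K) u, b * x = x * b) →
    ∀ d ∈ DL Om (centralizer {u}) D', b * d = d * b

/-- the characteristic -/
theorem char_eq {F : Type} [Field F] [Fintype F] {p p' q : ℕ} [CharP F p'] (hF : Fintype.card F = q) (hp : p.Prime)
    (hpq : p ∣ q) : p' = p := by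
  obtain ⟨n, hp', hn⟩ := FiniteField.card F p'
  rw [← hF, hn] at hpq
  exact ((Nat.prime_dvd_prime_iff_eq hp hp').1 (hp.dvd_of_dvd_pow hpq)).symm

theorem Bl.lo {u : G} {K K' : Subgroup G} (b : Bl Om u K K') {q k p : ℕ} {τ : Nodes.Chart.Ty}
    (t : TyD (fb Om (centralizer {u})) (PT Om (centralizer {u}) K) q τ k) (hp : p.Prime) (hpq : p ∣ q)
    (hc : CenAt Om q K K' u (PT Om (centralizer {u}) K)) :
    OmB3.BGood.Lo Om p q K K' u (PT Om (centralizer {u}) K) where
  cor := b.corG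
  qp := b.qp
  le := bar_le_PT
  le' := b.bar_le'
  nmem := b.nmem
  chart := by
    obtain ⟨F, i1, i2, p', i3, c, hF, -⟩ := t
    obtain rfl : p' = p := char_eq hF hp hpq
    exact ⟨c⟩
  comm := b.comm
  comm' := b.comm'
  cen := hc

variable {K K' J Q Q' QJ : Subgroup G} {x y b c : G}

/-- **all root groups are good** -/
theorem good_of (hm : MinS Om) (h : TwoEq Om) (w : WD Om K K' J Q Q' QJ x y b c)
    (hcor : OmB3.BIn.CorB Om K J x y) (hsolv : ∀ D : Subgroup G, ¬ 2 ∣ Nat.card D → Group.IsSolvable D)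
    (hB : CloEnd.Bend G) (hC : CloEnd.Crit1175 G)
    (bv : Bl Om (zz J * (x * y)) K K') (ba : Bl Om (zz K * (zz J * (x * y))) K K')
    {q kv ka : ℕ} {τv τa : Nodes.Chart.Ty}
    (tv : TyD (fam Om (centralizer {zz J * (x * y)})) (px Om (centralizer {zz J * (x * y)}) K) q τv kv)
    (ta : TyD (fam Om (centralizer {zz K * (zz J * (x * y))})) (px Om (centralizer {zz K * (zz J * (x * y))}) K)
      q τa ka)
    (cv : CenAt Om q K K' (zz J * (x * y)) (PT Om (centralizer {zz J * (x * y)}) K))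
    (ca : CenAt Om q K K' (zz K * (zz J * (x * y))) (PT Om (centralizer {zz K * (zz J * (x * y))}) K))
    {p : ℕ} (hp : p.Prime) (hpq : p ∣ q) : ∀ L ∈ Om, ∀ P ≤ L, Nat.card P = q → Good p P (zz L) := by
  rw [bv.px_eq, FamFb.fam_eq_fb bv.ty bv.core] at tv
  rw [ba.px_eq, FamFb.fam_eq_fb ba.ty ba.core] at ta
  have lv := bv.lo tv hp hpq cv
  have la := ba.lo ta hp hpq ca
  obtain ⟨F, i1, i2, p', i3, ch, hF, hodd, hτ, hZ, hsl, hV⟩ := tv
  obtain rfl : p' = p := char_eq hF hp hpq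
  obtain ⟨e⟩ := exists_sl_member ch (fun L hL _ _ => bv.core L hL) hsl bv.hK bv.le bar_le_PT
  obtain ⟨e'⟩ := exists_sl_member ch (fun L hL _ _ => bv.core L hL) hsl bv.hK' bv.le' bv.bar_le'
  obtain ⟨_, _, _, pa, _, cha, hFa, -⟩ := ta
  have hg := OmB3.BGood.good_all hm.simple h (fun L hL => (bv.ty L hL).isType) bv.core w hsolv hcor.z e e'
    (by rw [hF]; exact hodd) hF lv la (bv.trCls ch) (ba.trCls cha) hB hC
  rwa [hF] at hg

end

end Cfsg.Agent.Cit.TwoTy
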