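import Cfsg.Agent.Cit.TwoTy.TypesQ
import Cfsg.Agent.Cit.TwoTy.GoodBOf

/-!
# Branch (B): `Bl` for `v`, `z v`; all root groups are good (R18, Z3)
-/

set_option autoImplicit false
set_option linter.style.haveILetI false
set_option linter.unusedSectionVars false

namespace Cfsg.Agent.Cit.TwoTy

open Subgroup Cfsg OneBasic SubCent UseT TwoWT TwoBlk
open Cfsg.Agent.Cit.CoreTwoEq (CaseA CaseB L4 U4 Sp4)
open Cfsg.Agent.Cit.CoreTwoEqId (IdentTwo)
open Cfsg.Agent.Cit.TwoFK (TwoEq)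
open Cfsg.Agent.Cit.PieceG Cfsg.Agent.Cit.FrameOf
open Cfsg.Agent.Nodes.Chart

universe u

section

variable {G : Type u} [Group G] [Finite G] {Om : Set (Subgroup G)} {K K' J Q Q' QJ : Subgroup G} {x y b c : G}

/-- `[K', v] = 1` -/
theorem comm_v_K' (h : TwoE Om) (hty : ∀ K ∈ Om, IsType K) (hO : ∀ K ∈ Om, OO K = ⊥)
    (w : WD Om K K' J Q Q' QJ x y b c) : ∀ k ∈ K', k * (zz J * (x * y)) = (zz J * (x * y)) * k := by
  refine TwoWM.comm_of_perp (hty K' w.tt.hK') (hO K' w.tt.hK') w.hQ' ?_ (w.vv h.hyp) w.vQ'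
  rw [← h.normalizer_eq w.tt.hK w.tt.hK' w.tt.ne w.tt.hz]
  exact TwoWM.v_mem_normalizer_K h w

/-- `[K', z v] = 1` -/
theorem comm_zv_K' (h : TwoE Om) (hty : ∀ K ∈ Om, IsType K) (hO : ∀ K ∈ Om, OO K = ⊥)
    (w : WD Om K K' J Q Q' QJ x y b c) :
    ∀ k ∈ K', k * (zz K * (zz J * (x * y))) = (zz K * (zz J * (x * y))) * k := by
  intro k hk
  have h1 : k * zz K = zz K * k := by
    rw [← w.tt.hz]; exact h.hyp.comm_zz w.tt.hK' (le_normalizer hk)
  calc k * (zz K * (zz J * (x * y))) = (k * zz K) * (zz J * (x * y)) := by group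
    _ = zz K * (k * (zz J * (x * y))) := by rw [h1]; group
    _ = (zz K * (zz J * (x * y))) * k := by rw [comm_v_K' h hty hO w k hk]; group

theorem bl_v (hm : MinS Om) (h : TwoE Om) (hO : ∀ K ∈ Om, OO K = ⊥) (w : WD Om K K' J Q Q' QJ x y b c)
    (hne : zz J * (x * y) ≠ 1) (hcor : OmB3.BIn.CorB Om K J x y) : Bl Om (zz J * (x * y)) K K' where
  hyp := h.hyp
  ty := hm.ty
  core := hO
  pcs := hm.fam_cent hne
  hK := w.tt.hK
  hK' := w.tt.hK'
  ne := w.tt.ne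
  comm := TwoWM.comm_v_K h hm.isType hO w
  comm' := comm_v_K' h hm.isType hO w
  cor := hcor.v
  px' := (blk_v h hm.isType w (hm.fam_cent hne)).KD'
  all := fun _ hM => all_v h hm.isType w hM

theorem bl_a (hm : MinS Om) (h : TwoE Om) (hO : ∀ K ∈ Om, OO K = ⊥) (w : WD Om K K' J Q Q' QJ x y b c)
    (hne : zz K * (zz J * (x * y)) ≠ 1) (hcor : OmB3.BIn.CorB Om K J x y) :
    Bl Om (zz K * (zz J * (x * y))) K K' where
  hyp := h.hyp
  ty := hm.ty
  core := hO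
  pcs := hm.fam_cent hne
  hK := w.tt.hK
  hK' := w.tt.hK'
  ne := w.tt.ne
  comm := TwoWM.comm_zv_K h hm.isType hO w
  comm' := comm_zv_K' h hm.isType hO w
  cor := hcor.a
  px' := ((side_a h hm.isType w).blk h hm.isType (hm.fam_cent hne) fun hc => hcor.ncen ((cen_iff h w).2 hc)).KD'
  all := fun M hM => (side_a h hm.isType w).all h hm.isType (hm.fam_cent hne)
    (fun hc => hcor.ncen ((cen_iff h w).2 hc)) M hM

end

end Cfsg.Agent.Cit.TwoTy
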