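import Cfsg.Agent.Cit.TwoTy.TypesQ
import Cfsg.Agent.Cit.TwoTy.GoodB
import Cfsg.Agent.Cit.TwoTy.CenDL
import Cfsg.Agent.Cit.OmB3.BIn
import Cfsg.Agent.Cit.CoresG

/-!
# The types of branch (B) (R18, Z3)

* `Bl.onG` : the group `D` generated by the members in `C(u)` is a piece, and has the type of its image in
  `C(u) / O(C(u))`;
* `typesB` : `BIn.TypesB`.
-/

set_option autoImplicit false
set_option linter.style.haveILetI false
set_option linter.unusedSectionVars false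

namespace Cfsg.Agent.Cit.TwoTy

open Subgroup Cfsg OneBasic SubCent UseT TwoWT TwoBlk
open Cfsg.Agent.Cit.CoreTwoEq (CaseA CaseB L4 U4 Sp4)
open Cfsg.Agent.Cit.CoreTwoEqId (IdentTwo)
open Cfsg.Agent.Cit.TwoFK (TwoEq)
open Cfsg.Agent.Cit.PieceG Cfsg.Agent.Cit.FrameOf
open Cfsg.Agent.Nodes.Chart

universe u

/-- **the piece over `u` and its type** -/
theorem Bl.onG {G : Type u} [Group G] [Finite G] {Om : Set (Subgroup G)} {u : G} {K K' : Subgroup G}
    (b : Bl Om u K K') {q k : ℕ} {τ : Nodes.Chart.Ty} (hτ : 2 ≤ τ.rk)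
    (t : TyD (fam Om (centralizer {u})) (px Om (centralizer {u}) K) q τ k)
    (good : ∀ p : ℕ, p.Prime → p ∣ q → ∀ J ∈ Om, ∀ P ≤ J, Nat.card P = q → FrameOf.Good p P (zz J)) :
    ∃ D : Subgroup G, FrameOf.Piece Om u D ∧ (∀ L ∈ Om, L ≤ centralizer {u} → L ≤ D) ∧ TyD Om D q τ k := by
  rw [b.px_eq, FamFb.fam_eq_fb b.ty b.core] at t
  have h1 := TyD.exact b.corG b.qp b.nmem (fun J hJ _ _ => b.core J hJ) (Or.inr hτ)
    (fun p hp hpq J hJ _ _ P hP hc => good p hp hpq J hJ P hP hc) t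
  exact ⟨DL Om _ _, ExactChart.piece_DL b.corG b.qp h1.2, fun L hL hLu => h1.2 L hL hLu (b.hall L hL hLu), h1.1⟩

theorem Cases.rk {k : ℕ} {τ τ' : Nodes.Chart.Ty} (h : Cases k τ τ') : 2 ≤ τ.rk ∧ 2 ≤ τ'.rk := by
  obtain ⟨h1, h2⟩ := h.or
  constructor
  · rcases h1 with rfl | rfl <;> decide
  · rcases h2 with rfl | rfl <;> decide

open OmB3.BIn in
/-- **`TypesB`** -/
theorem typesB (id2 : IdentTwo.{u}) (hodd : CoresG.OddStmt.{u})
    (hB : ∀ (X : Type u) [Group X] [Finite X] [IsSimpleGroup X], CloEnd.Bend X)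
    (hC : ∀ (X : Type u) [Group X] [Finite X] [IsSimpleGroup X], CloEnd.Crit1175 X) : TypesB.{u} := by
  intro G _ _ Om hm h2 hBB hO K K' J Q Q' QJ x y b c w hcor
  have h : TwoE Om := h2.twoE
  have hty := hm.isType
  have n := nz h hBB.1 w
  have hca : ¬ TwoWT.Cen (zz K * (zz J * (x * y))) (zz K) := fun hc => hcor.ncen ((cen_iff h w).2 hc)
  have hpv := hm.fam_cent n.v
  have hpa := hm.fam_cent n.a
  refine ⟨?_, cut_of_core id2 hm h hBB.1 hO w hcor.ncen⟩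
  have sa := side_a h hty w
  have Bv := blk_v h hty w hpv
  have Ba := sa.blk h hty hpa hca
  obtain ⟨q, k, τ, τ', hcase, tv, ta⟩ := types_v_a id2 h hm.isType hm.uni w n.v hpv hpa hca
  have tv' := tyD_lift Bv tv
  have ta' := tyD_lift Ba ta
  have bv := bl_v hm h hO w n.v hcor
  have ba := bl_a hm h hO w n.a hcor
  have good : ∀ p : ℕ, p.Prime → p ∣ q → ∀ J ∈ Om, ∀ P ≤ J, Nat.card P = q → FrameOf.Good p P (zz J) := by
    intro p hp hpq
    haveI := hm.simple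
    exact good_of hm h2 w hcor (fun D hD => hodd D hD) (hB G) (hC G) bv ba tv' ta'
      (bv.cenAt tv') (ba.cenAt ta') hp hpq
  obtain ⟨Dv, P1, P2, P3⟩ := bv.onG hcase.rk.1 tv' good
  obtain ⟨Da, R1, R2, R3⟩ := ba.onG hcase.rk.2 ta' good
  refine ⟨Dv, Da, q, q, k, τ, τ', P1, R1, fun L hL hc => P2 L hL fun l hl => ?_,
    fun L hL hc => R2 L hL fun l hl => ?_, P3, R3, hcase⟩
  · exact mem_centralizer_singleton_iff.2 (hc l hl)
  · exact mem_centralizer_singleton_iff.2 (hc l hl)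

end Cfsg.Agent.Cit.TwoTy
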