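import Cfsg.Agent.Cit.TwoBig

/-!
# Existence of interchanged members (R18, Z3, branch (B), E-EXIST)

`exists_swapped` : `F` a family with `|F(S)| = 2`, equal involutions; `x ∈ J`, `y ∈ J'` of order 4 such that no member is
perpendicular to `t = x y`; if some involution `zz M₀` of a member interchanges `J` and `J'` then `t` interchanges the
members over some involution `zz M` commuting with `t`.
-/

set_option autoImplicit false
set_option linter.style.haveILetI false
set_option linter.unusedSectionVars false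

namespace Cfsg.Agent.Cit.TwoTy

open Subgroup Cfsg OneBasic

variable {Y : Type*} [Group Y] [Finite Y] {F : Set (Subgroup Y)}

theorem isP_inv {a : Y} (ha : a * a = 1) : IsPGroup 2 (zpowers a) := by
  haveI : Fact (Nat.Prime 2) := ⟨Nat.prime_two⟩
  rw [IsPGroup.iff_card]
  have h1 : orderOf a ∣ 2 ^ 1 := orderOf_dvd_of_pow_eq_one (by rw [pow_one, pow_two, ha])
  obtain ⟨k, -, hk⟩ := (Nat.dvd_prime_pow Nat.prime_two).1 h1
  exact ⟨k, by rw [Nat.card_zpowers, hk]⟩

/-- the involution of a member normalising another member is conjugate to its product with the involution of that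
member -/
theorem zz_mul_conj (h : TwoE F) {M L : Subgroup Y} (hM : M ∈ F) (hL : L ∈ F) (hn : zz L ∈ normalizer (M : Set Y))
    (hne : zz L ≠ zz M) : ∃ b, b * zz L * b⁻¹ = zz M * zz L := by
  obtain ⟨Q, hQ, hnQ⟩ := exists_syl_normalized (isP_inv (h.hyp.zz_mul hL)) (zpowers_le.2 hn)
  obtain ⟨b, -, hb, -⟩ := exists_conj_mul hQ.2.1 (fun t ht h2 h1 => h.hyp.eq_zz hM (hQ.1 ht) h2 h1) (h.hyp.zz_mul hL)
    (hnQ (mem_zpowers _)) (by
      by_contra hcon
      push Not at hcon
      exact hne (h.zz_eq_of_cent hM hL hQ hcon))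
  exact ⟨b, hb⟩

theorem TTp_ne_one (h : TwoE F) {J J' : Subgroup Y} {x y : Y} (p : TTp F J J' x y) : x * y ≠ 1 := by
  intro he
  refine h.hyp.not_mem_of_four p.hK p.hK' p.ne p.hz p.hx p.ox ?_
  rw [eq_inv_of_mul_eq_one_left he]
  exact J'.inv_mem p.hy

/-- **interchanged members** -/
theorem exists_swapped (h : TwoE F) (ty : ∀ K ∈ F, TyTwo K) {J J' M₀ : Subgroup Y} {x y : Y} (p : TTp F J J' x y)
    (hno : ∀ M ∈ F, ¬ TwoE.Perp (x * y) M) (hM₀ : M₀ ∈ F) (hc₀ : zz M₀ * zz J = zz J * zz M₀)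
    (hsw₀ : cj (zz M₀) J = J') : ∃ M ∈ F, zz M * (x * y) = (x * y) * zz M ∧ cj (x * y) M ≠ M := by
  -- a member `M₁` with `m x m⁻¹ = y`
  obtain ⟨M₁, hM₁, hc, hsw, hmx⟩ : ∃ M₁ ∈ F, zz M₁ * zz J = zz J * zz M₁ ∧ cj (zz M₁) J = J' ∧
      zz M₁ * x * (zz M₁)⁻¹ = y := by
    obtain ⟨S, hmS, hSC, hJS⟩ := h.exists_sylow_ge (R := zpowers (zz M₀)) p.hK (isP_inv (h.hyp.zz_mul hM₀))
      (zpowers_le.2 (mem_centralizer_singleton_iff.2 hc₀))
    have hm : zz M₀ ∈ (S : Subgroup Y) := hmS (mem_zpowers _)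
    obtain ⟨c, v, n, gq⟩ := h.hyp.exists_gq p.hK (syl_inf S.isPGroup' hJS)
    have hv := gq.v_mem
    have hv4 : orderOf v = 4 := gq.orderOf_v
    have p1 : TTp F J J' v (zz M₀ * v * (zz M₀)⁻¹) :=
      { hK := p.hK
        hK' := p.hK'
        ne := p.ne
        hz := p.hz
        hx := hv.1
        hy := by rw [← hsw₀]; exact conj_mem_cj hv.1
        ox := hv4
        oy := by rw [← hv4]; exact (MulAut.conj (zz M₀)).orderOf_eq v
        two := ⟨S, S.isPGroup', hv.2, mul_mem (mul_mem hm hv.2) (inv_mem hm)⟩ }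
    obtain ⟨g, hg, hgx, hgy⟩ := h.conj_pair ty p1 p
    have hgJ := h.cj_eq_of_mem_sup p hg
    have hgz : g * zz J = zz J * g := mem_centralizer_singleton_iff.1 (h.sup_le_centralizer p hg)
    refine ⟨cj g M₀, h.hyp.conj _ hM₀ g, ?_, ?_, ?_⟩
    · rw [h.hyp.zz_cj hM₀]
      have hgz' : g⁻¹ * zz J = zz J * g⁻¹ := by
        rw [inv_mul_eq_iff_eq_mul, ← mul_assoc, hgz, mul_inv_cancel_right]
      calc g * zz M₀ * g⁻¹ * zz J = g * zz M₀ * (g⁻¹ * zz J) := by group
        _ = g * (zz M₀ * zz J) * g⁻¹ := by rw [hgz']; group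
        _ = (g * zz J) * zz M₀ * g⁻¹ := by rw [hc₀]; group
        _ = _ := by rw [hgz]; group
    · have e1 : cj g⁻¹ J = J := by
        conv_lhs => rw [← hgJ.1]
        exact cj_inv_cj g J
      rw [h.hyp.zz_cj hM₀, cj_mul, cj_mul, e1, hsw₀, hgJ.2]
    · rw [h.hyp.zz_cj hM₀]
      have e1 : g⁻¹ * x * g = v := by rw [← hgx]; group
      calc g * zz M₀ * g⁻¹ * x * (g * zz M₀ * g⁻¹)⁻¹ = g * (zz M₀ * (g⁻¹ * x * g) * (zz M₀)⁻¹) * g⁻¹ := by group
        _ = y := by rw [e1, hgy]
  set m := zz M₁ with hmdef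
  set s := zz J with hsdef
  have hmm : m * m = 1 := h.hyp.zz_mul hM₁
  have hmi : m⁻¹ = m := inv_eq_of_mul_eq_one_right hmm
  have hss : s * s = 1 := h.hyp.zz_mul p.hK
  have hxy := p.comm h.hyp
  have hmx' : m * x = y * m := by rw [← hmx, inv_mul_cancel_right]
  have hmy' : m * y = x * m := by
    calc m * y = m * (m * x * m⁻¹) := by rw [hmx]
      _ = (m * m) * x * m⁻¹ := by group
      _ = x * m := by rw [hmm, hmi, one_mul]
  have hxx : x * x = s := p.sqx h.hyp
  have hyy : y * y = s := p.sqy h.hyp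
  have hsx : s * x = x * s := by rw [← hxx, mul_assoc]
  have hsy : s * y = y * s := by rw [← hyy, mul_assoc]
  have hxi : x⁻¹ = x * s := by
    rw [inv_eq_iff_mul_eq_one, ← mul_assoc, hxx, hss]
  have hyi : y⁻¹ = y * s := by
    rw [inv_eq_iff_mul_eq_one, ← mul_assoc, hyy, hss]
  have hmt : m * (x * y) = (x * y) * m := by
    calc m * (x * y) = (m * x) * y := by group
      _ = y * (m * y) := by rw [hmx']; group
      _ = (y * x) * m := by rw [hmy']; group
      _ = _ := by rw [← hxy]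
  have hst : s * (x * y) = (x * y) * s := by
    calc s * (x * y) = (s * x) * y := by group
      _ = x * (s * y) := by rw [hsx]; group
      _ = _ := by rw [hsy]; group
  by_cases h1 : cj (x * y) M₁ = M₁
  swap
  · exact ⟨M₁, hM₁, hmt, h1⟩
  by_cases h2 : cj s M₁ = M₁
  · -- both fix `M₁`: contradiction
    exfalso
    have hsm : s ≠ m := by
      intro he
      have e1 : cj m J = J := by
        rw [← he]
        exact mem_normalizer_iff_cj.1 (le_normalizer (h.hyp.zz_mem p.hK))
      exact p.ne (e1.symm.trans hsw)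
    obtain ⟨b, hb⟩ := zz_mul_conj h hM₁ p.hK (mem_normalizer_iff_cj.2 h2) hsm
    -- `m s` is the involution of `L₁`
    have e1 : zz (cj b J) = m * s := by rw [h.hyp.zz_cj p.hK, hb]
    have hL₁ : cj b J ∈ F := h.hyp.conj _ p.hK b
    have e2 : zz (cj x (cj b J)) = (x * y) * m := by
      rw [h.hyp.zz_cj hL₁, e1]
      calc x * (m * s) * x⁻¹ = x * m * (s * x⁻¹) := by group
        _ = x * m * (s * (x * s)) := by rw [hxi]
        _ = x * m * ((s * x) * s) := by group
        _ = x * m * (x * (s * s)) := by rw [hsx]; group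
        _ = x * (m * x) := by rw [hss]; group
        _ = _ := by rw [hmx']; group
    have hL₂ : cj x (cj b J) ∈ F := h.hyp.conj _ hL₁ x
    have e3 : zz (cj x (cj b J)) ∈ normalizer (M₁ : Set Y) := by
      rw [e2]
      exact mul_mem (mem_normalizer_iff_cj.2 h1) (le_normalizer (h.hyp.zz_mem hM₁))
    have e4 : zz (cj x (cj b J)) ≠ zz M₁ := by
      rw [e2]
      intro he
      exact TTp_ne_one h p (mul_eq_right.1 he)
    obtain ⟨b', hb'⟩ := zz_mul_conj h hM₁ hL₂ e3 e4
    have hL₃ : cj b' (cj x (cj b J)) ∈ F := h.hyp.conj _ hL₂ b'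
    have e5 : zz (cj b' (cj x (cj b J))) = x * y := by
      rw [h.hyp.zz_cj hL₂, hb', e2, ← hmdef]
      calc m * (x * y * m) = (m * (x * y)) * m := by group
        _ = (x * y) * (m * m) := by rw [hmt]; group
        _ = x * y := by rw [hmm, mul_one]
    obtain ⟨Q, hQ⟩ := Hyp.exists_syl (cj b' (cj x (cj b J)))
    refine hno _ hL₃ ⟨Q, hQ, fun q hq => ?_⟩
    rw [← e5]
    exact (h.hyp.comm_zz hL₃ (le_normalizer (hQ.1 hq))).symm
  · -- `s` interchanges the members over `m`
    obtain ⟨w, hw, hwx, hwy⟩ := h.conj_pair ty p p.symm.inv.symm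
    refine ⟨cj w M₁, h.hyp.conj _ hM₁ w, ?_, ?_⟩
    · rw [h.hyp.zz_cj hM₁, ← hmdef]
      have a1 : w * x = x⁻¹ * w := by rw [← hwx]; group
      have a2 : w * y = y * w := by
        rw [mul_inv_eq_iff_eq_mul] at hwy
        exact hwy
      have a3 : w⁻¹ * x = x⁻¹ * w⁻¹ := by
        rw [inv_mul_eq_iff_eq_mul]
        have : w * x⁻¹ * w⁻¹ = x := by
          calc w * x⁻¹ * w⁻¹ = (w * x * w⁻¹)⁻¹ := by group
            _ = x := by rw [hwx, inv_inv]
        rw [← mul_assoc, this]
      have a4 : w⁻¹ * y = y * w⁻¹ := by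
        rw [inv_mul_eq_iff_eq_mul, ← mul_assoc, a2, mul_inv_cancel_right]
      have a5 : m * x⁻¹ = y⁻¹ * m := by
        calc m * x⁻¹ = (m * x⁻¹ * m⁻¹) * m := by group
          _ = (m * x * m⁻¹)⁻¹ * m := by group
          _ = y⁻¹ * m := by rw [hmx]
      have a6 : w * y⁻¹ = y⁻¹ * w := by
        rw [mul_inv_eq_iff_eq_mul, mul_assoc, a2]; group
      calc w * m * w⁻¹ * (x * y) = w * m * (w⁻¹ * x) * y := by group
        _ = w * m * x⁻¹ * (w⁻¹ * y) := by rw [a3]; group
        _ = w * (m * x⁻¹) * y * w⁻¹ := by rw [a4]; group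
        _ = (w * y⁻¹) * (m * y) * w⁻¹ := by rw [a5]; group
        _ = y⁻¹ * (w * x) * m * w⁻¹ := by rw [a6, hmy']; group
        _ = y⁻¹ * x⁻¹ * (w * m * w⁻¹) := by rw [a1]; group
        _ = (y * s) * (x * s) * (w * m * w⁻¹) := by rw [hxi, hyi]
        _ = y * (s * x) * s * (w * m * w⁻¹) := by group
        _ = y * x * (s * s) * (w * m * w⁻¹) := by rw [hsx]; group
        _ = _ := by rw [hss, mul_one, hxy]
    · intro he
      apply h2
      have a1 : (x * y) * w = w * (s * (x * y)) := by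
        have b1 : w * x * w⁻¹ = x * s := by rw [hwx, hxi]
        have b2 : w * x = x * s * w := by rw [← b1]; group
        have b3 : w * y = y * w := by
          rw [mul_inv_eq_iff_eq_mul] at hwy
          exact hwy
        have hws : w * s = s * w := by
          exact mem_centralizer_singleton_iff.1 (h.sup_le_centralizer p hw)
        calc (x * y) * w = x * (y * w) := by group
          _ = (x * w) * y := by rw [← b3]; group
          _ = (s * s) * (x * w) * y := by rw [hss, one_mul]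
          _ = s * (s * x) * w * y := by group
          _ = s * (x * s * w) * y := by rw [hsx]; group
          _ = (s * w) * x * y := by rw [← b2]; group
          _ = _ := by rw [← hws]; group
      have a2 : cj (x * y) (cj w M₁) = cj w (cj s M₁) := by
        rw [← cj_mul, a1, cj_mul, cj_mul, h1]
      rw [a2] at he
      exact cj_inj.1 he

end Cfsg.Agent.Cit.TwoTy
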