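import Cfsg.Agent.Cit.TwoBlk
import Cfsg.Agent.Cit.TwoWT
import Cfsg.Agent.Cit.TwoTy.Exist

/-!
# The blocks of `C(u)` (R18, Z3, branch (B))

* `Pre Om u J J' x y` : an involution `u` perpendicular to the mates `J`, `J'` and commuting with `x ∈ J`, `y ∈ J'` of
  order 4; `Pre.blk` : if not all members covered by `C(u)` are `J`, `J'` up to `O(C(u))` then the piece of `J` is a block;
* `Side` : moreover no member is perpendicular to `u` and to `x y`; `Side.noperp` : no trace is perpendicular to `x y`;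
* `side_a`, `side_t`, `pre_v` : the three involutions of the configuration `WD`.
-/

set_option autoImplicit false
set_option linter.style.haveILetI false
set_option linter.unusedSectionVars false

namespace Cfsg.Agent.Cit.TwoTy

open Subgroup Cfsg OneBasic SubCent UseT TwoWT TwoBlk

universe u

variable {G : Type u} [Group G] [Finite G] {Om : Set (Subgroup G)}

/-! ### Involutions with the same image -/

theorem eq_one_of_mem_OO {H T : Subgroup G} (hT : IsPGroup 2 T) {g : G} (hg : g ∈ T) (hO : g ∈ OO H) : g = 1 := by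
  obtain ⟨k, hk⟩ := hT ⟨g, hg⟩
  exact eq_one_of_odd (odd_OO H) hO (a := k) (congrArg Subtype.val hk)

theorem qm_eq_one_iff {H : Subgroup G} {g : H} : qm H g = 1 ↔ (g : G) ∈ OO H := by
  rw [← MonoidHom.mem_ker, ker_qm]
  constructor
  · exact fun h => ⟨g, h, rfl⟩
  · rintro ⟨g', hg', he⟩
    rwa [← Subtype.ext (a1 := g') (a2 := g) he]

theorem exists_odd_conj {H : Subgroup G} {a b : G} (ha : a ∈ H) (hb : b ∈ H) (haa : a * a = 1) (hbb : b * b = 1)
    (he : qm H ⟨a, ha⟩ = qm H ⟨b, hb⟩) : ∃ o : H, qm H o = 1 ∧ (o : G) * b * (o : G)⁻¹ = a := by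
  have h1 : qm H (⟨a, ha⟩ * ⟨b, hb⟩) = 1 := by
    rw [map_mul, he, ← map_mul]
    have : (⟨b, hb⟩ : H) * ⟨b, hb⟩ = 1 := Subtype.ext hbb
    rw [this, map_one]
  have h2 : (a * b) ∈ OO H := qm_eq_one_iff.1 h1
  have h3 : Odd (orderOf (a * b)) := by
    rw [← Nat.not_even_iff_odd, even_iff_two_dvd]
    intro h5
    apply odd_OO H
    refine h5.trans ?_
    rw [← Subgroup.orderOf_mk (a * b) h2]
    exact orderOf_dvd_natCard _
  obtain ⟨k, hk⟩ := h3
  have hai : a⁻¹ = a := inv_eq_of_mul_eq_one_right haa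
  have hbi : b⁻¹ = b := inv_eq_of_mul_eq_one_right hbb
  refine ⟨(⟨a, ha⟩ * ⟨b, hb⟩) ^ (k + 1), by rw [map_pow, h1, one_pow], ?_⟩
  change (a * b) ^ (k + 1) * b * ((a * b) ^ (k + 1))⁻¹ = a
  have h4 : b * ((a * b) ^ (k + 1))⁻¹ * b⁻¹ = (a * b) ^ (k + 1) := by
    rw [← inv_pow, ← conj_pow]
    congr 1
    rw [mul_inv_rev, hai, hbi]
    calc b * (b * a) * b = (b * b) * a * b := by group
      _ = a * b := by rw [hbb, one_mul]
  have h5 : (a * b) ^ (k + 1 + (k + 1)) = a * b := by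
    rw [show k + 1 + (k + 1) = (2 * k + 1) + 1 by ring, pow_succ, ← hk, pow_orderOf_eq_one, one_mul]
  calc (a * b) ^ (k + 1) * b * ((a * b) ^ (k + 1))⁻¹
      = (a * b) ^ (k + 1) * (b * ((a * b) ^ (k + 1))⁻¹ * b⁻¹) * b := by group
    _ = (a * b) ^ (k + 1 + (k + 1)) * b := by rw [h4, ← pow_add]
    _ = a * (b * b) := by rw [h5]; group
    _ = a := by rw [hbb, mul_one]

/-- a 2-subgroup of `H / O(H)` containing the image of `b` lifts to a 2-group containing `b` -/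
theorem exists_lift_mem {H : Subgroup G} {b : G} (hb : b ∈ H) (hbb : b * b = 1) {R : Subgroup (HQ H)}
    (hR : IsPGroup 2 R) (hbR : qm H ⟨b, hb⟩ ∈ R) : ∃ T : Subgroup H, IsPGroup 2 T ∧ (⟨b, hb⟩ : H) ∈ T ∧
      T.map (qm H) = R := by
  obtain ⟨T, hT, rfl⟩ := exists_lift (qm_surjective H) hR
  obtain ⟨t, ht, htb⟩ := hbR
  have h1 : (t : G) * t = 1 := by
    have h2 : qm H (t * t) = 1 := by
      rw [map_mul, htb, ← map_mul]
      have : (⟨b, hb⟩ : H) * ⟨b, hb⟩ = 1 := Subtype.ext hbb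
      rw [this, map_one]
    exact eq_one_of_mem_OO (hT.map H.subtype) ⟨t * t, mul_mem ht ht, rfl⟩ (qm_eq_one_iff.1 h2)
  obtain ⟨o, ho, ho'⟩ := exists_odd_conj hb t.2 hbb h1 (by rw [← htb])
  refine ⟨cj o T, isPGroup_cj hT, ?_, ?_⟩
  · have e : (⟨b, hb⟩ : H) = o * t * o⁻¹ := Subtype.ext ho'.symm
    rw [e]
    exact conj_mem_cj ht
  · rw [cj_map, ho, cj_one]

/-! ### `Pre` -/

/-- an involution `u` perpendicular to mates `J`, `J'` and commuting with `x`, `y` -/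
structure Pre (Om : Set (Subgroup G)) (u : G) (J J' : Subgroup G) (x y : G) : Prop where
  tt : TTp Om J J' x y
  uu : u * u = 1
  ux : x ∈ centralizer {u}
  uy : y ∈ centralizer {u}
  pJ : TwoE.Perp u J
  pJ' : TwoE.Perp u J'

namespace Pre

variable {u x y : G} {J J' : Subgroup G}

theorem covJ (s : Pre Om u J J' x y) (h : TwoE Om) (hty : ∀ K ∈ Om, IsType K) : J ∈ cov Om (centralizer {u}) :=
  cov_of_perp h.hyp hty s.tt.hK s.uu s.pJ

theorem covJ' (s : Pre Om u J J' x y) (h : TwoE Om) (hty : ∀ K ∈ Om, IsType K) : J' ∈ cov Om (centralizer {u}) :=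
  cov_of_perp h.hyp hty s.tt.hK' s.uu s.pJ'

/-- `TTp` for the traces -/
theorem ttp (s : Pre Om u J J' x y) (h : TwoE Om) (hty : ∀ K ∈ Om, IsType K) :
    TTp (fam Om (centralizer {u})) (tr (centralizer {u}) J) (tr (centralizer {u}) J')
      (qm (centralizer {u}) ⟨x, s.ux⟩) (qm (centralizer {u}) ⟨y, s.uy⟩) := by
  have hJ := s.covJ h hty
  have hJ' := s.covJ' h hty
  set H := centralizer {u} with hH
  have hz : zz (tr H J') = zz (tr H J) := by
    rw [zz_tr h.hyp hty hJ, zz_tr h.hyp hty hJ']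
    congr 1
    exact Subtype.ext s.tt.hz
  have x4 : x ^ 2 ^ 2 = 1 := by
    have h4 := pow_orderOf_eq_one x
    rw [s.tt.ox] at h4
    exact h4
  have y4 : y ^ 2 ^ 2 = 1 := by
    have h4 := pow_orderOf_eq_one y
    rw [s.tt.oy] at h4
    exact h4
  have key : ∀ {L : Subgroup G} (hL : L ∈ cov Om H) {a : G} (ha : a ∈ H), a * a = zz L → a ^ 2 ^ 2 = 1 →
      orderOf (qm H ⟨a, ha⟩) = 4 := by
    intro L hL a ha haz ha4
    have e2 : (4 : ℕ) = 2 ^ (1 + 1) := by norm_num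
    rw [e2]
    haveI : Fact (Nat.Prime 2) := ⟨Nat.prime_two⟩
    refine orderOf_eq_prime_pow ?_ ?_
    · intro h1
      have h2 : zz (tr H L) = 1 := by
        rw [zz_tr h.hyp hty hL, ← h1, pow_one, pow_two, ← map_mul]
        congr 1
        exact Subtype.ext haz.symm
      exact (hyp_fam h.hyp hty H).zz_ne (tr_mem hL) h2
    · rw [← map_pow]
      have : (⟨a, ha⟩ : H) ^ 2 ^ (1 + 1) = 1 := Subtype.ext ha4
      rw [this, map_one]
  obtain ⟨R, hR, hxR, hyR⟩ := s.tt.two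
  exact
    { hK := tr_mem hJ
      hK' := tr_mem hJ'
      ne := tr_ne_of_mate h hty hJ hJ' s.tt.ne s.tt.hz
      hz := hz
      hx := mem_tr hty hJ (x := ⟨x, s.ux⟩) s.tt.hx (a := 2) (Subtype.ext x4)
      hy := mem_tr hty hJ' (x := ⟨y, s.uy⟩) s.tt.hy (a := 2) (Subtype.ext y4)
      ox := key hJ s.ux (s.tt.sqx h.hyp) x4
      oy := key hJ' s.uy (by rw [s.tt.sqy h.hyp, s.tt.hz]) y4
      two := ⟨(R.subgroupOf H).map (qm H), hR.comap_subtype.map _, ⟨⟨x, s.ux⟩, hxR, rfl⟩, ⟨⟨y, s.uy⟩, hyR, rfl⟩⟩ }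

theorem cj (s : Pre Om u J J' x y) (h : Hyp Om) (g : G) :
    Pre Om (g * u * g⁻¹) (Cit.cj g J) (Cit.cj g J') (g * x * g⁻¹) (g * y * g⁻¹) := by
  have key : ∀ {a : G}, a ∈ centralizer {u} → g * a * g⁻¹ ∈ centralizer {g * u * g⁻¹} := by
    intro a ha
    rw [← cj_centralizer]
    exact conj_mem_cj ha
  refine ⟨s.tt.cj h g, ?_, key s.ux, key s.uy, s.pJ.cj g, s.pJ'.cj g⟩
  calc g * u * g⁻¹ * (g * u * g⁻¹) = g * (u * u) * g⁻¹ := by group
    _ = 1 := by rw [s.uu]; group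

theorem inv (s : Pre Om u J J' x y) : Pre Om u J J' x y⁻¹ :=
  ⟨s.tt.inv, s.uu, s.ux, inv_mem s.uy, s.pJ, s.pJ'⟩

variable {J₀ : Subgroup G}

/-- **the block** -/
theorem blk (s : Pre Om u J J' x y) (h : TwoE Om) (hty : ∀ K ∈ Om, IsType K)
    (hp : HasPieces (fam Om (centralizer {u})))
    (hnm : px Om (centralizer {u}) J ∉ fam Om (centralizer {u}))
    (hall : ∀ M ∈ cov Om (centralizer {u}), px Om (centralizer {u}) M = px Om (centralizer {u}) J) :
    Blk (fam Om (centralizer {u})) (px Om (centralizer {u}) J) (tr (centralizer {u}) J)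
      (tr (centralizer {u}) J') := by
  have p := s.ttp h hty
  have hJ := s.covJ h hty
  have hJ' := s.covJ' h hty
  set H := centralizer {u} with hH
  have le := leTwo_fam h hty H
  have hF := hyp_fam h.hyp hty H
  obtain ⟨-, qs, two⟩ := (px_eq_or h.hyp hty hp hJ).resolve_left (fun e => hnm (by rw [e]; exact tr_mem hJ))
  exact
    { le := le
      ty := ty_fam hty H
      core := hp.core
      qs := qs
      cen := two
      hK := p.hK
      hK' := p.hK'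
      ne := p.ne
      comm := by
        obtain ⟨S, hS, -⟩ := hF.exists_sylow p.hK
        have h1 := comm_of_core hF hp.core S.isPGroup' hS (hF.mem_OmS_of_zz_eq S hS p.hK' p.hz) p.ne
        intro a ha b hb
        exact (mem_centralizer_iff.1 (h1 ha) b hb).symm
      KD := tr_le_px
      KD' := by rw [← hall J' hJ']; exact tr_le_px
      nz := by
        intro M hM hMD hc
        obtain ⟨M₀, hM₀, rfl⟩ := exists_tr hM
        -- all members have the involution of `M`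
        have h2 : px Om H M₀ = tr H M₀ := by
          refine pc_eq_self fun N hN hne => ?_
          obtain ⟨N₀, hN₀, rfl⟩ := exists_tr hN
          have hND : tr H N₀ ≤ px Om H J := by rw [← hall N₀ hN₀]; exact tr_le_px
          obtain ⟨Q, hQ⟩ := Hyp.exists_syl (tr H N₀)
          obtain ⟨S, hS, -, hLS, hKS⟩ := PairComm.exists_common' hF hN hM hQ fun a ha => hc a (hND (hQ.1 ha))
          exact comm_of_core hF hp.core hS hLS hKS hne
        rw [hall M₀ hM₀] at h2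
        rw [h2] at hnm
        exact hnm hM }

end Pre

/-! ### The restriction to a subgroup -/

section restr

variable {X : Type*} [Group X] [Finite X] {F : Set (Subgroup X)} {D K K' : Subgroup X} {x y : X}

theorem ttp_restr (hF : Hyp F) (p : TTp F K K' x y) (hK : K ≤ D) (hK' : K' ≤ D) :
    TTp (restr F D) (K.subgroupOf D) (K'.subgroupOf D) ⟨x, hK p.hx⟩ ⟨y, hK' p.hy⟩ := by
  have e := map_subgroupOf_eq_of_le hK
  have e' := map_subgroupOf_eq_of_le hK'
  have m := subgroupOf_mem_restr p.hK hK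
  have m' := subgroupOf_mem_restr p.hK' hK'
  obtain ⟨R, hR, hx, hy⟩ := p.two
  refine ⟨m, m', fun h => p.ne ?_, ?_, p.hx, p.hy, ?_, ?_, R.subgroupOf D, hR.comap_subtype, hx, hy⟩
  · rw [← e, ← e', h]
  · apply Subtype.ext
    rw [zz_map hF m, zz_map hF m', e, e', p.hz]
  · rw [← p.ox]; exact Subgroup.orderOf_mk x _
  · rw [← p.oy]; exact Subgroup.orderOf_mk y _

theorem perp_of_restr {M : Subgroup D} {a : D} (h : TwoE.Perp a M) : TwoE.Perp (a : X) (M.map D.subtype) := by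
  obtain ⟨Q, hQ, hc⟩ := h
  refine ⟨Q.map D.subtype, ⟨Subgroup.map_mono hQ.1, hQ.2.1.map _, ?_⟩, ?_⟩
  · rw [relIndex_map_map_of_injective _ _ D.subtype_injective]
    exact hQ.2.2
  · rintro _ ⟨q, hq, rfl⟩
    exact congrArg Subtype.val (hc q hq)

end restr

/-! ### `Side` -/

/-- moreover no member is perpendicular to `u` and to `x y` -/
structure Side (Om : Set (Subgroup G)) (u : G) (J J' : Subgroup G) (x y : G) : Prop extends Pre Om u J J' x y where
  no : ∀ M ∈ Om, TwoE.Perp u M → TwoE.Perp (x * y) M → False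

namespace Side

variable {u x y : G} {J J' : Subgroup G}

/-- no trace is perpendicular to `x y` -/
theorem noperp (s : Side Om u J J' x y) (h : TwoE Om) (hty : ∀ K ∈ Om, IsType K) :
    ∀ M ∈ fam Om (centralizer {u}), ¬ TwoE.Perp
      (qm (centralizer {u}) ⟨x, s.ux⟩ * qm (centralizer {u}) ⟨y, s.uy⟩) M := by
  set H := centralizer {u} with hH
  intro M hM hperp
  obtain ⟨Q, hQ, hc⟩ := hperp
  have hxyH : x * y ∈ H := mul_mem s.ux s.uy
  have e0 : qm H ⟨x, s.ux⟩ * qm H ⟨y, s.uy⟩ = qm H ⟨x * y, hxyH⟩ := by rw [← map_mul]; rfl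
  rw [e0] at hc
  have hsq := s.tt.sq h.hyp
  have hq2 : qm H ⟨x * y, hxyH⟩ * qm H ⟨x * y, hxyH⟩ = 1 := by
    rw [← map_mul]
    have : (⟨x * y, hxyH⟩ : H) * ⟨x * y, hxyH⟩ = 1 := Subtype.ext hsq
    rw [this, map_one]
  -- a 2-group
  have hR : IsPGroup 2 (zpowers (qm H ⟨x * y, hxyH⟩) ⊔ Q : Subgroup (HQ H)) := by
    refine (isP_inv hq2).to_sup_of_normal_right' hQ.2.1 ?_
    rw [zpowers_le]
    exact mem_normalizer_of_cent fun q hq => hc q hq
  obtain ⟨T, hT, htT, hTR⟩ := exists_lift_mem hxyH hsq hR (mem_sup_left (mem_zpowers _))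
  have hMR : M ∈ OmS (fam Om H) (zpowers (qm H ⟨x * y, hxyH⟩) ⊔ Q : Subgroup (HQ H)) :=
    mem_OmS_of_le hM hQ le_sup_right
  have hT' : IsPGroup 2 (T.map H.subtype) := hT.map _
  have e : T = (T.map H.subtype).subgroupOf H := by
    rw [subgroupOf, comap_map_eq_self_of_injective H.subtype_injective]
  have hMR' := hMR
  rw [← hTR, e, OmS_fam h.hyp hty hT' (map_subtype_le T)] at hMR'
  obtain ⟨L, ⟨hL, hLc⟩, rfl⟩ := hMR'
  -- `x y` centralises `L ∩ T`
  have hLT : Syl (L ⊓ T.map H.subtype) L := syl_inf hT' hL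
  refine s.no L hL.1 (perp_of_cov hLc) ⟨_, hLT, ?_⟩
  rintro q ⟨hqL, ⟨q', hq', rfl⟩⟩
  obtain ⟨k, hk⟩ := hT ⟨q', hq'⟩
  have h1 : qm H q' ∈ tr H L := mem_tr hty hLc hqL (a := k) (congrArg Subtype.val hk)
  have h2 : qm H q' ∈ Q := by
    have h3 : Q = tr H L ⊓ (zpowers (qm H ⟨x * y, hxyH⟩) ⊔ Q : Subgroup (HQ H)) :=
      hQ.eq_of_le (le_inf hQ.1 le_sup_right) inf_le_left (hR.to_le inf_le_right)
    rw [h3]
    refine ⟨h1, ?_⟩
    rw [← hTR]
    exact ⟨q', hq', rfl⟩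
  have h3 := hc _ h2
  have h4 : qm H (⟨x * y, hxyH⟩ * q' * (⟨x * y, hxyH⟩ : H)⁻¹ * q'⁻¹) = 1 := by
    rw [map_mul, map_mul, map_mul, map_inv, map_inv, h3, mul_inv_cancel_right, mul_inv_cancel]
  have h5 : (x * y) * (q' : G) * (x * y)⁻¹ * (q' : G)⁻¹ = 1 := by
    refine eq_one_of_mem_OO hT' (H := H) ?_ (qm_eq_one_iff.1 h4)
    exact ⟨⟨x * y, hxyH⟩ * q' * (⟨x * y, hxyH⟩ : H)⁻¹ * q'⁻¹,
      mul_mem (mul_mem (mul_mem htT hq') (inv_mem htT)) (inv_mem hq'), rfl⟩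
  rw [mul_inv_eq_one, mul_inv_eq_iff_eq_mul] at h5
  exact h5

theorem cj (s : Side Om u J J' x y) (h : Hyp Om) (g : G) :
    Side Om (g * u * g⁻¹) (Cit.cj g J) (Cit.cj g J') (g * x * g⁻¹) (g * y * g⁻¹) := by
  refine { toPre := s.toPre.cj h g, no := ?_ }
  intro M hM h1 h2
  refine s.no (Cit.cj g⁻¹ M) (h.conj M hM _) ?_ ?_
  · have h3 := h1.cj g⁻¹
    have e : g⁻¹ * (g * u * g⁻¹) * g⁻¹⁻¹ = u := by group
    rwa [e] at h3
  · have h3 := h2.cj g⁻¹
    have e : g⁻¹ * (g * x * g⁻¹ * (g * y * g⁻¹)) * g⁻¹⁻¹ = x * y := by group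
    rwa [e] at h3

end Side

/-! ### The three involutions of the configuration -/

section conf

variable {K K' J Q Q' QJ : Subgroup G} {x y b c : G}

theorem pre_v (h : TwoE Om) (w : WD Om K K' J Q Q' QJ x y b c) : Pre Om (zz J * (x * y)) K K' x y :=
  ⟨w.tt, w.vv h.hyp, mem_centralizer_singleton_iff.2 (comm_xv w), mem_centralizer_singleton_iff.2 (comm_yv w),
    w.Perp_v, w.Perp_v'⟩

/-- no member is perpendicular to `z v` and to `t` -/
theorem no_at (h : TwoE Om) (hty : ∀ K ∈ Om, IsType K) (w : WD Om K K' J Q Q' QJ x y b c) {M : Subgroup G}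
    (hM : M ∈ Om) (h1 : TwoE.Perp (zz K * (zz J * (x * y))) M) (h2 : TwoE.Perp (x * y) M) : False := by
  set g := c⁻¹ * b with hg
  have e1 : g⁻¹ * (zz K * (zz J * (x * y))) * g⁻¹⁻¹ = x * y := by
    rw [← w.gt h.hyp, hg]; group
  have e3 : g * (x * y * zz K) * g⁻¹ = x * y := by
    calc g * (x * y * zz K) * g⁻¹ = (g * (x * y) * g⁻¹) * (g * zz K * g⁻¹) := by group
      _ = (zz K * (zz J * (x * y))) * (zz J * zz K) := by rw [w.gt h.hyp, w.gz h.hyp]
      _ = zz K * ((zz J * (x * y)) * zz J) * zz K := by group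
      _ = zz K * (zz J * (zz J * (x * y))) * zz K := by rw [w.sv]
      _ = (zz K * (x * y)) * zz K := by rw [w.t_eq h.hyp]
      _ = x * y * (zz K * zz K) := by rw [w.zt h.hyp]; group
      _ = x * y := by rw [h.hyp.zz_mul w.tt.hK, mul_one]
  have e2 : g⁻¹ * (x * y) * g⁻¹⁻¹ = x * y * zz K := by
    conv_lhs => rw [← e3]
    group
  have h3 := h1.cj g⁻¹
  rw [e1] at h3
  have h4 := h2.cj g⁻¹
  rw [e2] at h4
  exact F0' h hty w.tt (h.hyp.conj M hM g⁻¹) h3 h4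

/-- the side of `z v` -/
theorem side_a (h : TwoE Om) (hty : ∀ K ∈ Om, IsType K) (w : WD Om K K' J Q Q' QJ x y b c) :
    Side Om (zz K * (zz J * (x * y))) K K' x y := by
  have hx : x * zz K = zz K * x := by rw [← w.tt.sqx h.hyp, mul_assoc]
  have hy : y * zz K = zz K * y := by rw [← w.tt.sqy h.hyp, mul_assoc]
  exact
    { tt := w.tt
      uu := zvzv h w
      ux := mem_centralizer_singleton_iff.2 (by
        calc x * (zz K * (zz J * (x * y))) = (x * zz K) * (zz J * (x * y)) := by group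
          _ = zz K * (x * (zz J * (x * y))) := by rw [hx]; group
          _ = _ := by rw [comm_xv w]; group)
      uy := mem_centralizer_singleton_iff.2 (by
        calc y * (zz K * (zz J * (x * y))) = (y * zz K) * (zz J * (x * y)) := by group
          _ = zz K * (y * (zz J * (x * y))) := by rw [hy]; group
          _ = _ := by rw [comm_yv w]; group)
      pJ := w.Perp_zv h w.tt.hK rfl
      pJ' := w.Perp_zv h w.tt.hK' w.tt.hz
      no := fun M hM h1 h2 => no_at h hty w hM h1 h2 }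

/-- the side of `t`, with `x' y' = z t` -/
theorem side_t (h : TwoE Om) (hty : ∀ K ∈ Om, IsType K) (w : WD Om K K' J Q Q' QJ x y b c) :
    ∃ J₁ J₁' x₁ y₁, Side Om (x * y) J₁ J₁' x₁ y₁ ∧ zz J₁ = zz J ∧ x₁ * y₁ = x * y * zz K := by
  -- `e = b⁻¹ c⁻¹ b` exchanges `z`, `s`, and `z v`, `t`
  have hbi : b⁻¹ * (zz K * zz J) * b = zz J := by rw [← w.hb]; group
  have hbz : b⁻¹ * zz K * b = zz K := by
    calc b⁻¹ * zz K * b = b⁻¹ * (b * zz K * b⁻¹) * b := by rw [w.bz h.hyp]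
      _ = _ := by group
  have hbv : b⁻¹ * (zz J * (x * y)) * b = zz J * (x * y) := by
    calc b⁻¹ * (zz J * (x * y)) * b = b⁻¹ * (b * (zz J * (x * y)) * b⁻¹) * b := by rw [w.bv]
      _ = _ := by group
  have hss := h.hyp.zz_mul w.hJ
  have hzz := h.hyp.zz_mul w.tt.hK
  have ez : (b⁻¹ * (c⁻¹ * b)) * zz K * (b⁻¹ * (c⁻¹ * b))⁻¹ = zz J := by
    calc (b⁻¹ * (c⁻¹ * b)) * zz K * (b⁻¹ * (c⁻¹ * b))⁻¹
        = b⁻¹ * ((c⁻¹ * b) * zz K * (c⁻¹ * b)⁻¹) * b := by group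
      _ = b⁻¹ * (zz K * zz J) * b := by rw [w.gz h.hyp, w.sz h.hyp]
      _ = zz J := hbi
  have es : (b⁻¹ * (c⁻¹ * b)) * zz J * (b⁻¹ * (c⁻¹ * b))⁻¹ = zz K := by
    calc (b⁻¹ * (c⁻¹ * b)) * zz J * (b⁻¹ * (c⁻¹ * b))⁻¹
        = b⁻¹ * ((c⁻¹ * b) * zz J * (c⁻¹ * b)⁻¹) * b := by group
      _ = b⁻¹ * zz K * b := by rw [w.gs h.hyp]
      _ = zz K := hbz
  have ev : (b⁻¹ * (c⁻¹ * b)) * (zz J * (x * y)) * (b⁻¹ * (c⁻¹ * b))⁻¹ = zz J * (x * y) := by
    calc (b⁻¹ * (c⁻¹ * b)) * (zz J * (x * y)) * (b⁻¹ * (c⁻¹ * b))⁻¹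
        = b⁻¹ * ((c⁻¹ * b) * (zz J * (x * y)) * (c⁻¹ * b)⁻¹) * b := by group
      _ = b⁻¹ * (zz J * (x * y)) * b := by rw [w.gv]
      _ = _ := hbv
  set e := b⁻¹ * (c⁻¹ * b) with he
  have ea : e * (zz K * (zz J * (x * y))) * e⁻¹ = x * y := by
    calc e * (zz K * (zz J * (x * y))) * e⁻¹ = (e * zz K * e⁻¹) * (e * (zz J * (x * y)) * e⁻¹) := by group
      _ = x * y := by rw [ez, ev, w.t_eq h.hyp]
  have et : e * (x * y) * e⁻¹ = zz K * (zz J * (x * y)) := by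
    calc e * (x * y) * e⁻¹ = e * (zz J * (zz J * (x * y))) * e⁻¹ := by rw [w.t_eq h.hyp]
      _ = (e * zz J * e⁻¹) * (e * (zz J * (x * y)) * e⁻¹) := by group
      _ = _ := by rw [es, ev]
  have s := (side_a h hty w).toPre.cj h.hyp e
  rw [ea] at s
  have hz1 : zz (cj e K) = zz J := by rw [h.hyp.zz_cj w.tt.hK, ez]
  have hprod : (e * x * e⁻¹) * (e * y * e⁻¹)⁻¹ = x * y * zz K := by
    rw [s.tt.inv_eq h.hyp, hz1]
    calc e * x * e⁻¹ * (e * y * e⁻¹) * zz J = (e * (x * y) * e⁻¹) * zz J := by group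
      _ = zz K * ((zz J * (x * y)) * zz J) := by rw [et]; group
      _ = zz K * (zz J * (zz J * (x * y))) := by rw [w.sv]
      _ = zz K * (x * y) := by rw [w.t_eq h.hyp]
      _ = _ := w.zt h.hyp
  refine ⟨cj e K, cj e K', e * x * e⁻¹, (e * y * e⁻¹)⁻¹, { toPre := s.inv, no := ?_ }, hz1, hprod⟩
  intro M hM h1 h2
  rw [hprod] at h2
  exact F0' h hty w.tt hM h1 h2

end conf

end Cfsg.Agent.Cit.TwoTy
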