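import Cfsg.Agent.Cit.TwoTy.Def
import Cfsg.Agent.Cit.TwoNoSp
import Cfsg.Agent.Nodes.CardWitt
import Cfsg.Agent.LieClassical.FieldTransfer

/-!
# Typed charts of the leaves `PSL₄(q)`, `PSU₄(q)`, `PSp₄(q)` (R18, Z3, branch (B), part (L))

* `tyD_l4` : `L4 X → ∃ q, TyD Om ⊤ q (.A 3) 5`;
* `tyD_u4` : `U4 X → ∃ q, TyD Om ⊤ q (.C 2) 5`;
* `tyD_sp4` : `Sp4 X → (∃ q, TyD Om ⊤ q (.C 2) 3) ∧ ¬ CaseA Om`;
* `inv_l4`, `inv_u4` : for two groups of the same type with the same `q`, case (A) is the same.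
-/

set_option autoImplicit false
set_option linter.unusedSectionVars false
set_option linter.style.haveILetI false

namespace Cfsg.Agent.Cit.TwoTy.Leaf

open Subgroup Cfsg Matrix Cfsg.Agent.Cit.LongAbs Cfsg.Agent.Cit.LongBlock Cfsg.Agent.Cit.LongQuot
  Cfsg.Agent.Cit.LongMain Cfsg.Agent.Cit.LongModel Cfsg.Agent.Cit.LongInst Cfsg.Agent.Cit.LongTwo
  Cfsg.Agent.Cit.LongFinal Cfsg.Agent.Cit.LongConj Cfsg.Agent.Cit.LongLeaf Cfsg.Agent.Cit.LongLeafCh
  Cfsg.Agent.Cit.LongLeafEnd Cfsg.Agent.Nodes.Chart Cfsg.Agent.Nodes.ChartLoc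
open Cfsg.Agent.Cit.TwoFK (TwoEq)
open Cfsg.Agent.Cit.CoreTwoEq (CaseA Sp4 L4 U4)

/-! ### Transport -/

section Map

theorem VV_map {I W Y Y' : Type*} [Fintype I] [DecidableEq I] [Group W] [Fintype W] [Group Y] [Group Y']
    {M : CoxeterMatrix I} (cs : CoxeterSystem M W) {A : I → I → ℤ}
    (h : Cfsg.Agent.ChevalleyStructure.CoxeterGeom.IsCartan M A) (X : (I → ℤ) → Subgroup Y) (f : Y →* Y')
    (r : I → ℤ) : VV cs h (fun x => (X x).map f) r = (VV cs h X r).map f := by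
  unfold VV Nodes.BNOf.RGD.Sup
  rw [Subgroup.map_iSup]

variable {Y Y' : Type*} [Group Y] [Group Y'] {Om : Set (Subgroup Y)} {Om' : Set (Subgroup Y')} {D : Subgroup Y}
  {q k : ℕ} {τ : Nodes.Chart.Ty}

theorem tyD_map (h : TyD Om D q τ k) (f : Y →* Y') (hf : Function.Injective f)
    (h1 : ∀ K ≤ D, K ∈ Om ↔ K.map f ∈ Om') : TyD Om' (D.map f) q τ k := by
  obtain ⟨F, i1, i2, p, i3, c, hq, ho, hτ, hzx, hsl, hVV⟩ := h
  refine ⟨F, i1, i2, p, i3, Chart.map' c f hf h1, hq, ho, hτ, ?_, ?_, ?_⟩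
  · exact fun r hr => congrArg (Subgroup.map f) (hzx r hr)
  · intro r hr
    obtain ⟨g⟩ := hsl r hr
    exact ⟨g.trans (((c.Z r ⊔ c.Z (-r)).equivMapOfInjective f hf).trans
      (MulEquiv.subgroupCongr (Subgroup.map_sup _ _ _)))⟩
  · intro r hr
    have h2 : Nat.card (VV c.cs c.h (fun x => (c.X x).map f) r) = q ^ k := by
      rw [VV_map c.cs c.h c.X f r, Subgroup.card_map_of_injective hf, hVV r hr]
    exact h2

theorem img_symm (e : Y ≃* Y') : Cit.img e.symm.toMonoidHom (Cit.img e.toMonoidHom Om) = Om := by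
  rw [img_img]
  have h3 : e.symm.toMonoidHom.comp e.toMonoidHom = MonoidHom.id Y := by
    ext x; simp
  rw [h3, img_id]

theorem tyD_of_img (e : Y ≃* Y') (h : TyD (Cit.img e.toMonoidHom Om) ⊤ q τ k) : TyD Om ⊤ q τ k := by
  have h1 := tyD_map (Om' := Om) h e.symm.toMonoidHom e.symm.injective (fun K _ => by
    constructor
    · rintro ⟨J, hJ, rfl⟩
      rw [Subgroup.map_map]
      have h3 : e.symm.toMonoidHom.comp e.toMonoidHom = MonoidHom.id Y := by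
        ext x; simp
      rwa [h3, Subgroup.map_id]
    · intro hK
      refine ⟨_, hK, ?_⟩
      change (K.map e.symm.toMonoidHom).map e.toMonoidHom = K
      rw [Subgroup.map_map]
      have h3 : e.toMonoidHom.comp e.symm.toMonoidHom = MonoidHom.id Y' := by
        ext x; simp
      rw [h3, Subgroup.map_id])
  rwa [Subgroup.map_top_of_surjective _ e.symm.surjective] at h1

/-- the order of the members determines `q` -/
theorem card_of_tyD (h : TyD Om ⊤ q τ k) {K : Subgroup Y} (hK : K ∈ Om) : Nat.card K = q * (q ^ 2 - 1) := by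
  obtain ⟨F, i1, i2, p, i3, c, hq, ho, hτ, hzx, hsl, hVV⟩ := h
  obtain ⟨r, hr, g, -, rfl⟩ := c.om_conj K hK le_top
  obtain ⟨e⟩ := hsl r hr
  rw [← hq, ← ClassicalGeometry.PSL2Basic.card_SL2, Nat.card_congr e.toEquiv]
  exact Cit.card_cj g _

theorem one_lt_of_tyD (h : TyD Om D q τ k) : 1 < q := by
  obtain ⟨F, i1, i2, p, i3, c, hq, -⟩ := h
  rw [← hq]
  exact Fintype.one_lt_card

theorem card_inj {a b : ℕ} (ha : 1 < a) (hb : 1 < b) (h : a * (a ^ 2 - 1) = b * (b ^ 2 - 1)) : a = b := by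
  have key : ∀ {a b : ℕ}, 1 < a → a < b → a * (a ^ 2 - 1) < b * (b ^ 2 - 1) := by
    intro a b ha hab
    have h1 : a ^ 2 < b ^ 2 := Nat.pow_lt_pow_left hab (by norm_num)
    have h2 : 1 < a ^ 2 := by nlinarith
    exact Nat.mul_lt_mul_of_lt_of_le hab (by omega) (by omega)
  rcases lt_trichotomy a b with h1 | h1 | h1
  · exact absurd h (key ha h1).ne
  · exact h1
  · exact absurd h.symm (key hb h1).ne

end Map

/-! ### The data of a leaf -/

section Leaf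

variable {Γ : Type*} [Group Γ] [Finite Γ] {F : Type*} [Field F] {κ : Type*} [Fintype κ] [DecidableEq κ]
  {R : Rep Γ F κ} {F1 : Type} [Field F1] [Fintype F1] {Om : Set (Subgroup (Γ ⧸ center Γ))}

theorem exists_D1 (h : Leaf R F1) (B : Base Om) (hz : ∃ K ∈ Om, ∃ g, g * zz K * g⁻¹ = z0 R) :
    D1 R ∈ Om ∧ ∀ K ∈ Om, ∃ g, K = cj g (D1 R) := by
  obtain ⟨K, hK, g, hg⟩ := hz
  obtain ⟨g, hg⟩ := h.exists_cj B.hyp hK (B.ty K hK) hg
  have h1 : D1 R ∈ Om := by rw [← hg]; exact B.hyp.conj K hK g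
  exact ⟨h1, fun J hJ => B.cls _ h1 J hJ⟩

theorem exists_sl (h : Leaf R F1) (h2 : ∀ K ∈ Om, ∃ g, K = cj g (D1 R)) {K : Subgroup (Γ ⧸ center Γ)}
    (hK : K ∈ Om) : Nonempty (SpecialLinearGroup (Fin 2) F1 ≃* ↥K) := by
  obtain ⟨x, rfl⟩ := h2 K hK
  have := h.good.ne
  obtain ⟨e⟩ := h.good.e1
  exact ⟨(e.symm.trans (D1Equiv R)).trans (cjEquiv x (D1 R))⟩

theorem eq_cls (hcj : ∀ K ∈ Om, ∀ g, cj g K ∈ Om) (h1 : D1 R ∈ Om) (h2 : ∀ K ∈ Om, ∃ g, K = cj g (D1 R)) :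
    Om = {K | ∃ g, K = cj g (D1 R)} := by
  ext K
  constructor
  · exact h2 K
  · rintro ⟨g, rfl⟩
    exact hcj _ h1 g

end Leaf

/-! ### The charts -/

section Charts

variable {F : Type} [Field F] [Fintype F] (ho : Odd (Fintype.card F))
include ho

open Cfsg.Agent.Nodes.ChartTypeA in
theorem tyD_psl4 {Om : Set (Subgroup (ProjectiveSpecialLinearGroup (Fin 4) F))}
    (hcj : ∀ K ∈ Om, ∀ g, cj g K ∈ Om) (h1 : D1 (slRep F 2) ∈ Om)
    (h2 : ∀ K ∈ Om, ∃ g, K = cj g (D1 (slRep F 2))) : TyD Om ⊤ (Fintype.card F) (.A 3) 5 := by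
  have hsl := fun {K : Subgroup (ProjectiveSpecialLinearGroup (Fin 4) F)} (hK : K ∈ Om) =>
    exists_sl (sl_leaf2 ho) h2 hK
  rw [D1_sl] at h1
  simp only [D1_sl] at h2
  obtain ⟨p, hp, h2p, hch⟩ := exists_char ho
  have : Fact p.Prime := ⟨hp⟩
  let c : Chart Om p (⊤ : Subgroup (ProjectiveSpecialLinearGroup (Fin 4) F)) :=
    chartA (n := 3) h2p (by norm_num) (pr (SpecialLinearGroup (Fin 4) F))
      (QuotientGroup.mk'_surjective _) (by rw [QuotientGroup.ker_mk']) Om hcj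
      ((ee 2).symm (Sum.inl 0)) ((ee 2).symm (Sum.inl 1)) (by simp) h1 h2
  have hs : ∀ r ∈ c.R, Nonempty (SpecialLinearGroup (Fin 2) F ≃* ↥(c.Z r ⊔ c.Z (-r))) :=
    fun r hr => hsl (c.om r hr)
  refine ⟨F, inferInstance, inferInstance, p, hch, c, rfl, ho, ⟨Equiv.refl _, fun i j => rfl, fun i =>
    ⟨fun _ => trivial, fun _ => Cfsg.Agent.Tits.Roots.isRoot_sr _ _ i⟩⟩, fun r _ => rfl, hs, ?_⟩
  intro r hr
  refine Nodes.CardVV.card_VV_A3 (cs := c.cs) (h := c.h) c.cls (fun y hy => ?_) hr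
  obtain ⟨e⟩ := hs y hy
  exact card_Z c.cls h2p hy e

section C2

open Cfsg.Agent.Nodes Cfsg.Agent.Nodes.ChartTypeC Cfsg.Agent.Nodes.WittU Cfsg.Agent.Nodes.TypeC
  Cfsg.Agent.Nodes.ClsWitt Cfsg.Agent.Nodes.CardWitt Cfsg.Agent.Nodes.CardVV
open Cfsg.Agent.TitsThree Cfsg.Agent.TitsThree.Siegel Cfsg.Agent.TitsThree.WittFrame
  Cfsg.Agent.TitsThree.WittWeyl Cfsg.Agent.TitsThree.FrameCN
open Cfsg.Agent.TitsThree.SiegelGen Cfsg.Agent.TitsThree.WBridge Cfsg.Agent.TitsThree.KSideU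
  Cfsg.Agent.TitsThree.KSideUDesc

theorem tyD_psp4 {Om : Set (Subgroup (PSp 2 F))} (hcj : ∀ K ∈ Om, ∀ g, cj g K ∈ Om)
    (h1 : D1 (LongSp.spRep F) ∈ Om) (h2 : ∀ K ∈ Om, ∃ g, K = cj g (D1 (LongSp.spRep F))) :
    TyD Om ⊤ (Fintype.card F) (.C 2) 3 := by
  have hsl := fun {K : Subgroup (PSp 2 F)} (hK : K ∈ Om) => exists_sl (sp_leaf ho) h2 hK
  rw [D1_sp] at h1
  simp only [D1_sp] at h2
  obtain ⟨p, hp, h2p, hch⟩ := exists_char ho
  have : Fact p.Prime := ⟨hp⟩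
  have hp2 : Odd p := hp.odd_of_ne_two h2p
  obtain ⟨x, hx⟩ := exists_long (CoxeterMatrix.B 2).toCoxeterSystem ((0 : Fin 2), true)
  have hKC : KC (KInstSp.model 2 F) ((0 : Fin 2), true) =
      (Cfsg.Agent.Nodes.WittBlock.blkSp F (0 : Fin 2)).map (QuotientGroup.mk' (center (symplecticGroup (Fin 2) F))) :=
    (ZM_sup (KInstSp.model 2 F) amb_Sp hx).symm.trans
      (Cfsg.Agent.Nodes.WittBlock.sup_ZM_Sp
        (SignalizersComponents.SLQuasisimple.two_ne_zero_of_odd ho) (0 : Fin 2) hx)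
  let c : Chart Om p (⊤ : Subgroup (PSp 2 F)) :=
    chartSp (m := 2) (by norm_num) h2p (MonoidHom.id (PSp 2 F)) Function.surjective_id
      (by rw [MonoidHom.ker_id]; exact bot_le) Om hcj ((0 : Fin 2), true)
      (by rw [Subgroup.map_id, hKC]; exact h1) (by rw [Subgroup.map_id, hKC]; exact h2)
  have hs : ∀ r ∈ c.R, Nonempty (SpecialLinearGroup (Fin 2) F ≃* ↥(c.Z r ⊔ c.Z (-r))) :=
    fun r hr => hsl (c.om r hr)
  have hw : ∀ a : (SpIdent.frame 2 F).Adm, a.w = 0 := fun a => by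
    have h3 := (SpIdent.frame 2 F).ok_mem a.ok
    exact (Submodule.mem_bot F).1 h3
  have hzx : ∀ r ∈ c.R, c.Z r = c.X r := fun r hr =>
    congrArg (Subgroup.map (MonoidHom.id (PSp 2 F))) (ZM_eq (KInstSp.model 2 F) hw hr)
  refine ⟨F, inferInstance, inferInstance, p, hch, c, rfl, ho, ⟨Equiv.refl _, fun i j => rfl, fun i => sr_mem_LR i⟩,
    hzx, hs, ?_⟩
  intro r hr
  have h3 := card_VV_C2 (cs := (CoxeterMatrix.B 2).toCoxeterSystem) c.cls (a := Fintype.card F) (b := Fintype.card F)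
    (fun y hy => by
      obtain ⟨e⟩ := hs y hy
      have h3 := card_Z c.cls h2p hy e
      rwa [hzx y hy] at h3)
    (fun y a b hab e => by
      change Nat.card ((WittModel.X (KInstSp.model 2 F) y).map (MonoidHom.id (PSp 2 F))) = _
      rw [Subgroup.map_id, card_X_model (KInstSp.model 2 F) amb_Sp (p0 := SpIdent.adm 1) one_ne_zero hp2 hab e,
        Nat.card_eq_fintype_card]) hr
  refine h3.trans ?_
  ring

theorem tyD_psu4 {q : ℕ} (hF : Fintype.card F = q ^ 2) {Om : Set (Subgroup (PSU 4 F q))}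
    (hcj : ∀ K ∈ Om, ∀ g, cj g K ∈ Om) (h1 : D1 (suRep hF 2 (by norm_num)) ∈ Om)
    (h2 : ∀ K ∈ Om, ∃ g, K = cj g (D1 (suRep hF 2 (by norm_num)))) : TyD Om ⊤ q (.C 2) 5 := by
  have hsl := fun {K : Subgroup (PSU 4 F q)} (hK : K ∈ Om) => exists_sl (su_leaf2 ho hF) h2 hK
  rw [D1_su] at h1
  simp only [D1_su] at h2
  obtain ⟨p, hp, h2p, hch⟩ := exists_char ho
  have : Fact p.Prime := ⟨hp⟩
  have hp2 : Odd p := hp.odd_of_ne_two h2p
  have hch1 : CharP (LongInst.KK hF) p :=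
    (RingHom.charP_iff (LongInst.KK hF).subtype (LongInst.KK hF).subtype.injective p).2 hch
  obtain ⟨W, hW⟩ := exists_wframe (N := 4) (m := 2) hF (Or.inl rfl)
  obtain ⟨x, hx⟩ := exists_long (CoxeterMatrix.B 2).toCoxeterSystem ((0 : Fin 2), true)
  have hN : 3 ≤ 4 := by norm_num
  have hKC : KC (KInstU.model hF hN W) ((0 : Fin 2), true) =
      (Cfsg.Agent.Nodes.WittBlock.blkU F q 4 ((LongInst.ee 2).symm (Sum.inl 0)) ((LongInst.ee 2).symm (Sum.inl 1))).map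
        (QuotientGroup.mk' (center (SU 4 F q))) :=
    (ZM_sup (KInstU.model hF hN W) (amb_U hF W) hx).symm.trans
      (Cfsg.Agent.Nodes.WittBlock.sup_ZM_U hF hN W hW
        (SignalizersComponents.SLQuasisimple.two_ne_zero_of_odd ho) (0 : Fin 2) rfl rfl hx)
  let c : Chart Om p (⊤ : Subgroup (PSU 4 F q)) :=
    chartU hF hN (by norm_num) W h2p (MonoidHom.id (PSU 4 F q)) Function.surjective_id
      (by rw [MonoidHom.ker_id]; exact bot_le) Om hcj ((0 : Fin 2), true)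
      (by rw [Subgroup.map_id, hKC]; exact h1) (by rw [Subgroup.map_id, hKC]; exact h2)
  have hs : ∀ r ∈ c.R, Nonempty (SpecialLinearGroup (Fin 2) (LongInst.KK hF) ≃* ↥(c.Z r ⊔ c.Z (-r))) :=
    fun r hr => hsl (c.om r hr)
  have hzx : ∀ r ∈ c.R, c.Z r = c.X r := fun r hr =>
    congrArg (Subgroup.map (MonoidHom.id (PSU 4 F q))) (ZM_eq (KInstU.model hF hN W) (w_eq_zero hF W hW rfl) hr)
  refine ⟨LongInst.KK hF, inferInstance, inferInstance, p, hch1, c, card_KK hF, odd_q hF ho,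
    ⟨Equiv.refl _, fun i j => rfl, fun i => sr_mem_LR i⟩, hzx, hs, ?_⟩
  intro r hr
  have h3 := card_VV_C2 (cs := (CoxeterMatrix.B 2).toCoxeterSystem) c.cls (a := q) (b := q ^ 2)
    (fun y hy => by
      obtain ⟨e⟩ := hs y hy
      have h3 := card_Z c.cls h2p hy e
      rwa [hzx y hy, card_KK hF] at h3)
    (fun y a b hab e => by
      change Nat.card ((WittModel.X (KInstU.model hF hN W) y).map (MonoidHom.id (PSU 4 F q))) = _
      rw [Subgroup.map_id, card_X_model (KInstU.model hF hN W) (amb_U hF W)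
        (WittU.exists_adm hF W).choose_spec.1 hp2 hab e, Nat.card_eq_fintype_card, hF]) hr
  refine h3.trans ?_
  ring

end C2

end Charts

/-! ### `TwoEq` -/

section Final

variable {G : Type*} [Group G] [Finite G] {Om : Set (Subgroup G)}

theorem base_of [IsSimpleGroup G] (h : TwoEq Om) (ty : ∀ K ∈ Om, Cit.Ty K) (hne : Om.Nonempty) : Base Om :=
  ⟨h.hyp, ty, hne, fun K hK J hJ => by
    obtain ⟨g, hg⟩ := h.cls K hK J hJ
    exact ⟨g, hg.symm⟩, inferInstance⟩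

theorem twoCen_of (h : TwoEq Om) (hne : Om.Nonempty) : TwoCen Om := by
  obtain ⟨K0, hK0⟩ := id hne
  obtain ⟨S0, -, hS0⟩ := CoreTwoEq.exists_sylow_central h hK0
  exact ⟨K0, hK0, S0, hS0⟩

variable [IsSimpleGroup G] (h : TwoEq Om) (ty : ∀ K ∈ Om, Cit.Ty K) (hne : Om.Nonempty)
include h ty hne

theorem d1_psl4 {F : Type} [Field F] [Fintype F] (ho : Odd (Fintype.card F))
    (e : G ≃* ProjectiveSpecialLinearGroup (Fin 4) F) : D1 (slRep F 2) ∈ Cit.img e.toMonoidHom Om ∧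
      ∀ K ∈ Cit.img e.toMonoidHom Om, ∃ g, K = cj g (D1 (slRep F 2)) := by
  have B := base_of h ty hne
  have B' := B.map e
  obtain ⟨K, hK, S, hS⟩ := (twoCen_of h hne).map B e
  obtain ⟨g, hg⟩ := sl4_two_central ho S (B'.hyp.zz_mul hK) (B'.hyp.zz_ne hK) hS
  exact exists_D1 (sl_leaf2 ho) B' ⟨K, hK, g, hg⟩

theorem d1_psu4 {F : Type} [Field F] [Fintype F] (ho : Odd (Fintype.card F)) {q : ℕ} (hF : Fintype.card F = q ^ 2)
    (e : G ≃* PSU 4 F q) : D1 (suRep hF 2 (by norm_num)) ∈ Cit.img e.toMonoidHom Om ∧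
      ∀ K ∈ Cit.img e.toMonoidHom Om, ∃ g, K = cj g (D1 (suRep hF 2 (by norm_num))) := by
  have B := base_of h ty hne
  have B' := B.map e
  obtain ⟨K, hK, S, hS⟩ := (twoCen_of h hne).map B e
  obtain ⟨g, hg⟩ := su4_two_central ho hF S (B'.hyp.zz_mul hK) (B'.hyp.zz_ne hK) hS
  exact exists_D1 (su_leaf2 ho hF) B' ⟨K, hK, g, hg⟩

theorem d1_psp4 {F : Type} [Field F] [Fintype F] (ho : Odd (Fintype.card F))
    (e : G ≃* PSp 2 F) : D1 (LongSp.spRep F) ∈ Cit.img e.toMonoidHom Om ∧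
      ∀ K ∈ Cit.img e.toMonoidHom Om, ∃ g, K = cj g (D1 (LongSp.spRep F)) := by
  have B := base_of h ty hne
  have B' := B.map e
  obtain ⟨K, hK, S, hS⟩ := (twoCen_of h hne).map B e
  obtain ⟨g, hg⟩ := sp4_two_central ho S (B'.hyp.zz_mul hK) (B'.hyp.zz_ne hK) hS
  exact exists_D1 (sp_leaf ho) B' ⟨K, hK, g, hg⟩

/-- **`PSL₄(q)`** -/
theorem tyD_l4 (hX : L4 G) : ∃ q, TyD Om ⊤ q (.A 3) 5 := by
  obtain ⟨F, i1, i2, ho, ⟨e⟩⟩ := hX
  obtain ⟨h1, h2⟩ := d1_psl4 h ty hne ho e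
  exact ⟨_, tyD_of_img e (tyD_psl4 ho ((base_of h ty hne).map e).hyp.conj h1 h2)⟩

/-- **`PSU₄(q)`** -/
theorem tyD_u4 (hX : U4 G) : ∃ q, TyD Om ⊤ q (.C 2) 5 := by
  obtain ⟨F, i1, i2, q, hF, hq, ⟨e⟩⟩ := hX
  have ho : Odd (Fintype.card F) := by rw [hF]; exact hq.pow
  obtain ⟨h1, h2⟩ := d1_psu4 h ty hne ho hF e
  exact ⟨_, tyD_of_img e (tyD_psu4 ho hF ((base_of h ty hne).map e).hyp.conj h1 h2)⟩

/-- **`PSp₄(q)`** -/
theorem tyD_sp4 (hX : Sp4 G) : (∃ q, TyD Om ⊤ q (.C 2) 3) ∧ ¬ CaseA Om := by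
  refine ⟨?_, fun hA => TwoNoSp.not_sp4 h ty hne hA hX⟩
  obtain ⟨F, i1, i2, ho, ⟨e⟩⟩ := hX
  obtain ⟨h1, h2⟩ := d1_psp4 h ty hne ho e
  exact ⟨_, tyD_of_img e (tyD_psp4 ho ((base_of h ty hne).map e).hyp.conj h1 h2)⟩

end Final

/-! ### Case (A) depends only on the group -/

section Inv

variable {G L : Type*} [Group G] [Finite G] [Group L] {Om : Set (Subgroup G)}

theorem cen_of (h : TwoE Om) (ty : ∀ K ∈ Om, TyTwo K) (hne : Om.Nonempty) (e : G ≃* L) :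
    Cen Om e.toMonoidHom where
  two := h
  ne := hne
  ty := ty
  surj := e.surjective
  cen := by rw [(MonoidHom.ker_eq_bot_iff _).2 e.injective]; exact bot_le
  pg := by rw [(MonoidHom.ker_eq_bot_iff _).2 e.injective]; exact IsPGroup.of_bot
  inf := fun K _ => by rw [(MonoidHom.ker_eq_bot_iff _).2 e.injective, inf_bot_eq]

theorem caseA_img (h : TwoE Om) (ty : ∀ K ∈ Om, TyTwo K) (hne : Om.Nonempty) (e : G ≃* L) (hA : CaseA Om) :
    CaseA (Cit.img e.toMonoidHom Om) := by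
  obtain ⟨K, K', x, y, p, M, hM, hxy⟩ := hA
  have c := cen_of h ty hne e
  exact ⟨_, _, _, _, c.map_pair p, _, ⟨M, hM, rfl⟩, by rw [← map_mul, hxy, c.zz_map hM]⟩

theorem caseA_of_img (h : TwoE Om) (ty : ∀ K ∈ Om, TyTwo K) (hne : Om.Nonempty) (e : G ≃* L)
    (hA : CaseA (Cit.img e.toMonoidHom Om)) : CaseA Om := by
  haveI : Finite L := Finite.of_equiv _ e.toEquiv
  have c := cen_of h ty hne e
  have h1 := caseA_img c.twoE c.ty_img (hne.image _) e.symm hA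
  rwa [img_symm] at h1

end Inv

section Inv2

variable {X Y : Type*} [Group X] [Finite X] [IsSimpleGroup X] [Group Y] [Finite Y] [IsSimpleGroup Y]
  {Om : Set (Subgroup X)} {Om' : Set (Subgroup Y)} (h : TwoEq Om) (ty : ∀ K ∈ Om, Cit.Ty K) (hne : Om.Nonempty)
  (h' : TwoEq Om') (ty' : ∀ K ∈ Om', Cit.Ty K) (hne' : Om'.Nonempty) {q k k' : ℕ} {τ τ' : Nodes.Chart.Ty}
  (t : TyD Om ⊤ q τ k) (t' : TyD Om' ⊤ q τ' k')
include h ty hne h' ty' hne' t t'

/-- **(INV)**, `PSL₄(q)` -/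
theorem inv_l4 (hX : L4 X) (hY : L4 Y) (hA : CaseA Om) : CaseA Om' := by
  obtain ⟨F, i1, i2, ho, ⟨e⟩⟩ := hX
  obtain ⟨F', i1', i2', ho', ⟨e'⟩⟩ := hY
  -- the order of the field
  have hq : Fintype.card F = q := by
    obtain ⟨h1, h2⟩ := d1_psl4 h ty hne ho e
    have t1 := tyD_of_img e (tyD_psl4 ho ((base_of h ty hne).map e).hyp.conj h1 h2)
    obtain ⟨K, hK⟩ := id hne
    exact card_inj Fintype.one_lt_card (one_lt_of_tyD t) ((card_of_tyD t1 hK).symm.trans (card_of_tyD t hK))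
  have hq' : Fintype.card F' = q := by
    obtain ⟨h1, h2⟩ := d1_psl4 h' ty' hne' ho' e'
    have t1 := tyD_of_img e' (tyD_psl4 ho' ((base_of h' ty' hne').map e').hyp.conj h1 h2)
    obtain ⟨K, hK⟩ := id hne'
    exact card_inj Fintype.one_lt_card (one_lt_of_tyD t') ((card_of_tyD t1 hK).symm.trans (card_of_tyD t' hK))
  let ρ : F ≃+* F' := FiniteField.ringEquivOfCardEq (hq.trans hq'.symm)
  let f : X ≃* ProjectiveSpecialLinearGroup (Fin 4) F' := e.trans (LieClassical.FieldTransfer.pslCongr ρ)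
  obtain ⟨h1, h2⟩ := d1_psl4 h ty hne ho' f
  obtain ⟨h3, h4⟩ := d1_psl4 h' ty' hne' ho' e'
  have h5 : Cit.img f.toMonoidHom Om = Cit.img e'.toMonoidHom Om' :=
    (eq_cls ((base_of h ty hne).map f).hyp.conj h1 h2).trans
      (eq_cls ((base_of h' ty' hne').map e').hyp.conj h3 h4).symm
  refine caseA_of_img h'.twoE (fun K hK => (ty' K hK).isType.tyTwo) hne' e' ?_
  rw [← h5]
  exact caseA_img h.twoE (fun K hK => (ty K hK).isType.tyTwo) hne f hA

/-- **(INV)**, `PSU₄(q)` -/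
theorem inv_u4 (hX : U4 X) (hY : U4 Y) (hA : CaseA Om) : CaseA Om' := by
  obtain ⟨F, i1, i2, a, hF, ha, ⟨e⟩⟩ := hX
  obtain ⟨F', i1', i2', a', hF', ha', ⟨e'⟩⟩ := hY
  have ho : Odd (Fintype.card F) := by rw [hF]; exact ha.pow
  have ho' : Odd (Fintype.card F') := by rw [hF']; exact ha'.pow
  -- the order of the field
  have hq : a = q := by
    obtain ⟨h1, h2⟩ := d1_psu4 h ty hne ho hF e
    have t1 := tyD_of_img e (tyD_psu4 ho hF ((base_of h ty hne).map e).hyp.conj h1 h2)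
    obtain ⟨K, hK⟩ := id hne
    exact card_inj (one_lt_of_tyD t1) (one_lt_of_tyD t) ((card_of_tyD t1 hK).symm.trans (card_of_tyD t hK))
  have hq' : a' = q := by
    obtain ⟨h1, h2⟩ := d1_psu4 h' ty' hne' ho' hF' e'
    have t1 := tyD_of_img e' (tyD_psu4 ho' hF' ((base_of h' ty' hne').map e').hyp.conj h1 h2)
    obtain ⟨K, hK⟩ := id hne'
    exact card_inj (one_lt_of_tyD t1) (one_lt_of_tyD t') ((card_of_tyD t1 hK).symm.trans (card_of_tyD t' hK))
  subst hq hq'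
  let ρ : F ≃+* F' := FiniteField.ringEquivOfCardEq (hF.trans hF'.symm)
  let f : X ≃* PSU 4 F' a' := e.trans (LieClassical.FieldTransfer.psuCongr 4 a' ρ)
  obtain ⟨h1, h2⟩ := d1_psu4 h ty hne ho' hF' f
  obtain ⟨h3, h4⟩ := d1_psu4 h' ty' hne' ho' hF' e'
  have h5 : Cit.img f.toMonoidHom Om = Cit.img e'.toMonoidHom Om' :=
    (eq_cls ((base_of h ty hne).map f).hyp.conj h1 h2).trans
      (eq_cls ((base_of h' ty' hne').map e').hyp.conj h3 h4).symm
  refine caseA_of_img h'.twoE (fun K hK => (ty' K hK).isType.tyTwo) hne' e' ?_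
  rw [← h5]
  exact caseA_img h.twoE (fun K hK => (ty K hK).isType.tyTwo) hne f hA

end Inv2

end Cfsg.Agent.Cit.TwoTy.Leaf
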