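import Cfsg.Agent.Cit.TwoTy.Def
import Cfsg.Agent.Cit.ExactPiece
import Cfsg.Agent.Cit.FamFb
import Cfsg.Agent.Cit.UseT2

/-!
# Typed charts `TyD` : transport, central extensions, exactness (R18, Z3, branch (B), (8b))

* `TyD.map`, `TyD.of_restr`, `TyD.to_restr`, `TyD.congr` : transport;
* `TyD.lift_top`, `TyD.lift` (M1) : lifting through a central extension by a 2-group;
* `TyD.exact`, `TyD.exact'` (M2) : a typed chart of the piece `D'` of `H / O(H)` gives one of its lift `DL Om H D'`;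
* `px_eq_PT` (M3) : for trivial cores `px = PT`.
-/

set_option autoImplicit false
set_option linter.unusedSectionVars false
set_option linter.style.haveILetI false

namespace Cfsg.Agent.Cit.TwoTy

open Subgroup Cfsg Cfsg.Agent.Nodes.Chart

/-! ### `VV` -/

section VV

open CoxeterSystem Cfsg.Agent.ChevalleyStructure.CoxeterGeom Cfsg.Agent.Tits.Roots
  Cfsg.Agent.Nodes.BNOf Cfsg.Agent.Nodes.ChartLoc

variable {I W Y Y' : Type*} [Fintype I] [DecidableEq I] [Group W] [Fintype W] [Group Y] [Group Y']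
  {M : CoxeterMatrix I} {cs : CoxeterSystem M W} {A : I → I → ℤ} {h : IsCartan M A}

theorem VV_map (f : Y →* Y') (X : (I → ℤ) → Subgroup Y) (r : I → ℤ) :
    VV cs h (fun x => (X x).map f) r = (VV cs h X r).map f := by
  unfold VV RGD.Sup
  rw [Subgroup.map_iSup]

theorem VV_subgroupOf (D : Subgroup Y) (X : (I → ℤ) → Subgroup Y) (hX : ∀ x, IsRoot cs h x → X x ≤ D)
    (r : I → ℤ) : VV cs h (fun x => (X x).subgroupOf D) r = (VV cs h X r).subgroupOf D := by
  unfold VV RGD.Sup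
  rw [Nodes.RGDLib.iSup_subgroupOf]
  exact fun x => hX _ x.2.1

theorem VV_le {D : Subgroup Y} {X : (I → ℤ) → Subgroup Y} (hX : ∀ x, IsRoot cs h x → X x ≤ D) (r : I → ℤ) :
    VV cs h X r ≤ D := RGD.Sup_le fun x hx => hX x hx.1

theorem VV_lft [Finite Y] {p : ℕ} [Fact p.Prime] {f : Y →* Y'} (hf : f.ker ≤ Subgroup.center Y)
    (hp : (Nat.card f.ker).Coprime p) (hs : Function.Surjective f) (X : (I → ℤ) → Subgroup Y') (r : I → ℤ)
    (hP : IsPGroup p ↥(VV cs h X r)) :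
    VV cs h (fun x => Nodes.RGDLift.lft p f (X x)) r = Nodes.RGDLift.lft p f (VV cs h X r) := by
  unfold VV RGD.Sup at hP ⊢
  exact (Nodes.RGDLift.lft_iSup hf hp hs _ hP).symm

end VV

theorem card_lft {Y Y' : Type*} [Group Y] [Group Y'] [Finite Y] {p : ℕ} [Fact p.Prime] {f : Y →* Y'}
    (hf : f.ker ≤ center Y) (hp : (Nat.card f.ker).Coprime p) (hs : Function.Surjective f) {P : Subgroup Y'}
    (hP : IsPGroup p P) : Nat.card ↥(Nodes.RGDLift.lft p f P) = Nat.card P := by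
  have h1 : (Nodes.RGDLift.lft p f P) ⊓ f.ker = ⊥ := by
    rw [eq_bot_iff]
    rintro x ⟨hx, hx1⟩
    exact mem_bot.2 (Nodes.RGDLift.eq_one_of_mem_lft hf hp hP hx hx1)
  rw [Nat.card_congr (mapEquivOfInf h1).toEquiv, Nodes.RGDLift.map_lft hf hp hs hP]

theorem card_map_inj {Y Y' : Type*} [Group Y] [Group Y'] {f : Y →* Y'} (hf : Function.Injective f)
    (P : Subgroup Y) : Nat.card ↥(P.map f) = Nat.card P :=
  (Nat.card_congr (P.equivMapOfInjective f hf).toEquiv).symm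

/-! ### Transport -/

section Transport

variable {Y G : Type*} [Group Y] [Group G] {q k : ℕ} {τ : Nodes.Chart.Ty}

/-- **the image under an injective homomorphism** -/
theorem TyD.map {Om' : Set (Subgroup Y)} {L' : Subgroup Y} (h : TyD Om' L' q τ k) (f : Y →* G)
    (hf : Function.Injective f) (Om : Set (Subgroup G)) (h1 : ∀ K ∈ Om', K ≤ L' → K.map f ∈ Om)
    (h2 : ∀ K ∈ Om, K ≤ L'.map f → ∃ K' ∈ Om', K' ≤ L' ∧ K = K'.map f) : TyD Om (L'.map f) q τ k := by
  obtain ⟨F, i1, i2, p, i3, c, hF, hodd, hτ, hZ, hsl, hV⟩ := h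
  refine ⟨F, i1, i2, p, i3, Nodes.ChartMap.mapInj c f hf Om h1 h2, hF, hodd, hτ,
    fun r hr => congrArg (Subgroup.map f) (hZ r hr), fun r hr => ?_, fun r hr => ?_⟩
  · obtain ⟨g⟩ := hsl r hr
    exact ⟨g.trans (((c.Z r ⊔ c.Z (-r)).equivMapOfInjective f hf).trans
      (MulEquiv.subgroupCongr (Subgroup.map_sup _ _ f)))⟩
  · rw [← hV r hr, ← card_map_inj hf]
    exact congrArg (fun S : Subgroup G => Nat.card ↥S) (VV_map f c.X r)

/-- a typed chart of the subgroup `D` from one of the group `↥D` -/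
theorem TyD.of_restr {Om : Set (Subgroup G)} {D : Subgroup G} (h : TyD (restr Om D) (⊤ : Subgroup D) q τ k) :
    TyD Om D q τ k := by
  have h1 := h.map D.subtype D.subtype_injective Om (fun K hK _ => hK) (fun K hK hKD => by
    rw [← MonoidHom.range_eq_map, range_subtype] at hKD
    exact ⟨K.subgroupOf D, subgroupOf_mem_restr hK hKD, le_top, (map_subgroupOf_eq_of_le hKD).symm⟩)
  rwa [← MonoidHom.range_eq_map, range_subtype] at h1

/-- a typed chart of the group `↥D` from one of the subgroup `D` -/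
theorem TyD.to_restr {Om : Set (Subgroup G)} {D : Subgroup G} (h : TyD Om D q τ k) :
    TyD (restr Om D) (⊤ : Subgroup D) q τ k := by
  obtain ⟨F, i1, i2, p, i3, c, hF, hodd, hτ, hZ, hsl, hV⟩ := h
  refine ⟨F, i1, i2, p, i3, Chart.restrict' c, hF, hodd, hτ,
    fun r hr => congrArg (fun S => Subgroup.subgroupOf S D) (hZ r hr), fun r hr => ?_, fun r hr => ?_⟩
  · obtain ⟨g⟩ := hsl r hr
    have h3 := le_chart c hr
    exact ⟨g.trans ((subgroupOfEquivOfLe h3).symm.trans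
      (MulEquiv.subgroupCongr (subgroupOf_sup (le_sup_left.trans h3) (le_sup_right.trans h3))))⟩
  · have h3 : ∀ x, Tits.Roots.IsRoot c.cs c.h x → c.X x ≤ D := fun x hx => chart_X_le c hx
    rw [← hV r hr, Nat.card_congr (subgroupOfEquivOfLe (VV_le h3 r)).symm.toEquiv]
    exact congrArg (fun S : Subgroup D => Nat.card ↥S) (VV_subgroupOf D c.X h3 r)

/-- isomorphic groups -/
theorem TyD.congr {Om : Set (Subgroup Y)} {Om' : Set (Subgroup G)} (h : TyD Om (⊤ : Subgroup Y) q τ k)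
    (e : Y ≃* G) (h1 : ∀ K : Subgroup Y, K ∈ Om ↔ K.map e.toMonoidHom ∈ Om') :
    TyD Om' (⊤ : Subgroup G) q τ k := by
  have h2 := h.map e.toMonoidHom e.injective Om' (fun K hK _ => (h1 K).1 hK) (fun K hK _ => by
    have h3 : (K.comap e.toMonoidHom).map e.toMonoidHom = K :=
      Subgroup.map_comap_eq_self_of_surjective e.surjective K
    exact ⟨K.comap e.toMonoidHom, (h1 _).2 (by rwa [h3]), le_top, h3.symm⟩)
  rwa [Subgroup.map_top_of_surjective _ e.surjective] at h2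

end Transport

/-! ### Central extensions -/

section Lift

variable {H Y : Type*} [Group H] [Finite H] [Group Y] {f : H →* Y} {Om : Set (Subgroup H)} {q k : ℕ}
  {τ : Nodes.Chart.Ty}

/-- **a typed chart lifts through a central extension by a 2-group, the group perfect** -/
theorem TyD.lift_top (hs : Function.Surjective f) (hf : f.ker ≤ center H) (h2 : IsPGroup 2 f.ker)
    (hP : Group.IsPerfect H) (hcj : ∀ K ∈ Om, ∀ g, cj g K ∈ Om) (hT : ∀ K ∈ Om, TyTwo K)
    (hinf : ∀ K ∈ Om, K ⊓ f.ker = ⊥) (h : TyD (img f Om) (⊤ : Subgroup Y) q τ k) :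
    TyD Om (⊤ : Subgroup H) q τ k := by
  obtain ⟨F, i1, i2, p, i3, c, hF, hodd, hτ, hZ, hsl, hV⟩ := h
  haveI : Fact p.Prime := ⟨c.prime⟩
  have hp := coprime_of_two c.prime c.odd h2
  refine ⟨F, i1, i2, p, i3, Chart.lift' c hs hf h2 hinf hT hP hcj, hF, hodd, hτ,
    fun r hr => congrArg (Nodes.RGDLift.lft p f) (hZ r hr), fun r hr => ?_, fun r hr => ?_⟩
  · obtain ⟨g⟩ := hsl r hr
    obtain ⟨J, hJ, e3, e4⟩ := exists_lift_K c hs hf h2 hinf hr
    exact ⟨g.trans ((MulEquiv.subgroupCongr e3).symm.trans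
      ((mapEquivOfInf (hinf J hJ)).symm.trans (MulEquiv.subgroupCongr e4.symm)))⟩
  · have hVp := Nodes.ChartLoc.isPGroup_VV c.cls r
    rw [← hV r hr, ← card_lft hf hp hs hVp]
    exact congrArg (fun S : Subgroup H => Nat.card ↥S) (VV_lft hf hp hs c.X r hVp)

/-- `TyTwo` of the image under an injective homomorphism -/
theorem tyTwo_of_map {Y G : Type*} [Group Y] [Group G] {f : Y →* G} (hf : Function.Injective f) {L : Subgroup Y}
    (h : TyTwo (L.map f)) : TyTwo L := by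
  intro x hx
  have h2 : f x ∈ closure {c | c ∈ L.map f ∧ Odd (orderOf c)} := h ⟨x, hx, rfl⟩
  have h3 : closure {c | c ∈ L.map f ∧ Odd (orderOf c)} ≤ (closure {c | c ∈ L ∧ Odd (orderOf c)}).map f := by
    rw [MonoidHom.map_closure, closure_le]
    rintro _ ⟨⟨c, hc, rfl⟩, hodd⟩
    exact subset_closure ⟨c, ⟨hc, by rwa [orderOf_injective f hf] at hodd⟩, rfl⟩
  obtain ⟨y, hy, hyx⟩ := h3 h2
  rwa [← hf hyx]

variable {D : Subgroup H}

/-- **(M1)** a typed chart of `D / Z(D)` gives one of the quasisimple group `D`, `Z(D)` a 2-group -/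
theorem TyD.lift (hyp : Hyp Om) (hq : IsQuasisimple D) (h2 : IsPGroup 2 (center D))
    (hT : ∀ K ∈ Om, K ≤ D → TyTwo K) (hinf : ∀ K ∈ restr Om D, K ⊓ center D = ⊥)
    (h : TyD (img (QuotientGroup.mk' (center D)) (restr Om D)) (⊤ : Subgroup (D ⧸ center D)) q τ k) :
    TyD Om D q τ k := by
  have hker : (QuotientGroup.mk' (center D)).ker = center D := QuotientGroup.ker_mk' _
  refine TyD.of_restr (TyD.lift_top (QuotientGroup.mk'_surjective _) hker.le ?_ hq.1 (hyp.restr D).conj ?_ ?_ h)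
  · rw [hker]; exact h2
  · intro K hK
    exact tyTwo_of_map D.subtype_injective (hT _ hK (map_subtype_le K))
  · rw [hker]; exact hinf

end Lift

/-! ### Exactness -/

section Exact

open Cfsg.Agent.Cit.UseT Cfsg.Agent.Cit.PieceG Cfsg.Agent.Cit.ExactChart Cfsg.Agent.Cit.FrameOf

variable {G : Type*} [Group G] [Finite G] {Om : Set (Subgroup G)} {H : Subgroup G} {D' : Subgroup (HQ H)}
  {q k : ℕ} {τ : Nodes.Chart.Ty}

/-- the chart of the lift, `|VV r|` -/
theorem card_VV_chart {F : Type*} [Field F] [Fintype F] {p : ℕ} {c : Chart (fb Om H) p D'} (I : Inp Om H F c)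
    (r : c.I → ℤ) : Nat.card (Nodes.ChartLoc.VV I.chart.cs I.chart.h I.chart.X r) =
      Nat.card (Nodes.ChartLoc.VV c.cs c.h c.X r) := by
  haveI : Fact p.Prime := ⟨c.prime⟩
  have h3 : ∀ x, Tits.Roots.IsRoot c.cs c.h x → c.X x ≤ D' := fun x hx => chart_X_le c hx
  have hV : IsPGroup p ↥(Nodes.ChartLoc.VV c.cs c.h c.X r) := Nodes.ChartLoc.isPGroup_VV c.cls r
  have h1 : IsPGroup p ↥((Nodes.ChartLoc.VV c.cs c.h c.X r).subgroupOf D') :=
    hV.of_equiv (subgroupOfEquivOfLe (VV_le h3 r)).symm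
  have h2 := VV_subgroupOf D' c.X h3 r
  rw [← h2] at h1
  have e1 : Nodes.ChartLoc.VV I.chart.cs I.chart.h I.chart.X r =
      (Nodes.ChartLoc.VV c.cs c.h (fun x => Nodes.RGDLift.lft p (dlD Om H D') ((c.X x).subgroupOf D')) r).map
        (DL Om H D').subtype := VV_map (DL Om H D').subtype _ r
  rw [e1, card_map_inj (DL Om H D').subtype_injective, VV_lft I.ker_le I.coprime I.surj _ r h1,
    card_lft I.ker_le I.coprime I.surj h1, h2, Nat.card_congr (subgroupOfEquivOfLe (VV_le h3 r)).toEquiv]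

/-- the members over a typed piece are `SL(2, F)` -/
theorem exists_sl_member {p : ℕ} {F : Type*} [Field F] [Fintype F] (c : Chart (fb Om H) p D')
    (core : ∀ J ∈ Om, J ≤ H → bar H J ≤ D' → OO J = ⊥)
    (hsl : ∀ r ∈ c.R, Nonempty (Matrix.SpecialLinearGroup (Fin 2) F ≃* ↥(c.Z r ⊔ c.Z (-r))))
    {J : Subgroup G} (hJ : J ∈ Om) (hJH : J ≤ H) (hJD : bar H J ≤ D') :
    Nonempty (Matrix.SpecialLinearGroup (Fin 2) F ≃* J) := by
  obtain ⟨r, hr, g, -, h1⟩ := c.om_conj (bar H J) (bar_mem hJ hJH) hJD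
  obtain ⟨e⟩ := hsl r hr
  have e2 : ↥(c.Z r ⊔ c.Z (-r)) ≃* ↥(bar H J) := by
    rw [h1]
    exact (c.Z r ⊔ c.Z (-r)).equivMapOfInjective _ (MulAut.conj g).injective
  exact ⟨(e.trans e2).trans (PieceLoc.barEquiv hJH (core J hJ hJH hJD)).symm⟩

/-- **(M2)** a typed chart of the quasisimple piece `D'` of `H / O(H)` gives one of its lift `DL Om H D'` -/
theorem TyD.exact (C : CorG Om H) (hD : QP Om H D') (hn : D' ∉ fb Om H)
    (core : ∀ J ∈ Om, J ≤ H → bar H J ≤ D' → OO J = ⊥) (big : 3 < q ∨ 2 ≤ τ.rk)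
    (good : ∀ p : ℕ, p.Prime → p ∣ q → ∀ J ∈ Om, J ≤ H → bar H J ≤ D' → ∀ P ≤ J, Nat.card P = q → Good p P (zz J))
    (h : TyD (fb Om H) D' q τ k) :
    TyD Om (DL Om H D') q τ k ∧ ∀ J ∈ Om, J ≤ H → bar H J ≤ D' → J ≤ DL Om H D' := by
  obtain ⟨F, i1, i2, p, i3, c, hF, hodd, hτ, hZ, hsl, hV⟩ := h
  have hpq : p ∣ q := by
    obtain ⟨n, hp, hn⟩ := FiniteField.card F p
    rw [← hF, hn]
    exact dvd_pow_self p n.2.ne'
  have I : Inp Om H F c :=
    { cor := C
      qp := hD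
      nmem := hn
      Fodd := by rw [hF]; exact hodd
      char := i3
      big := by
        rw [hF]
        refine big.imp_right fun h1 => nonAb_of_nontrivial c ?_
        rw [← Fintype.one_lt_card_iff_nontrivial, hτ.card]
        exact h1
      sl := fun J hJ hJH hJD => exists_sl_member c core hsl hJ hJH hJD
      good := fun J hJ hJH hJD P hP hc => good p c.prime hpq J hJ hJH hJD P hP (by rw [hc, hF]) }
  refine ⟨⟨F, i1, i2, p, i3, I.chart, hF, hodd, I.isTy hτ, I.Z_eq_X hZ, fun r hr => I.chart_sl hr,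
    fun r hr => ?_⟩, fun J hJ hJH hJD => I.le_DL hJ hJH hJD⟩
  rw [← hV r hr]
  exact card_VV_chart I r

/-- **(M2)**, the field of the members given -/
theorem TyD.exact' (C : CorG Om H) (hD : QP Om H D') (hn : D' ∉ fb Om H) {F : Type*} [Field F] [Fintype F] {p : ℕ}
    [CharP F p] (hF : Odd (Fintype.card F)) (big : 3 < Fintype.card F ∨ 2 ≤ τ.rk)
    (sl : ∀ J ∈ Om, J ≤ H → bar H J ≤ D' → Nonempty (Matrix.SpecialLinearGroup (Fin 2) F ≃* J))
    (good : ∀ J ∈ Om, J ≤ H → bar H J ≤ D' → ∀ P ≤ J, Nat.card P = Fintype.card F → Good p P (zz J))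
    (h : TyD (fb Om H) D' q τ k) :
    q = Fintype.card F ∧ TyD Om (DL Om H D') q τ k ∧ ∀ J ∈ Om, J ≤ H → bar H J ≤ D' → J ≤ DL Om H D' := by
  have hq : q = Fintype.card F := by
    obtain ⟨F', i1, i2, p', i3, c, hF', hodd, hτ, hZ, hsl, hV⟩ := h
    obtain ⟨r, hr⟩ := c.Rne
    obtain ⟨e1⟩ := exists_over hF c sl hr
    obtain ⟨e2⟩ := hsl r hr
    rw [← hF', card_eq (e2.trans e1.symm)]
  subst hq
  refine ⟨rfl, TyD.exact C hD hn (fun J hJ hJH hJD => ?_) big ?_ h⟩
  · obtain ⟨e⟩ := sl J hJ hJH hJD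
    exact ParabSL2.OO_eq_bot hF e
  · intro p' hp' hdvd
    obtain ⟨n, hp, hn⟩ := FiniteField.card F p
    rw [hn] at hdvd
    rw [(Nat.prime_dvd_prime_iff_eq hp' hp).1 (hp'.dvd_of_dvd_pow hdvd)]
    exact good

/-- **(M3)** for trivial cores the pieces of `UseT` are those of `PieceG` -/
theorem px_eq_PT (ty : ∀ K ∈ Om, Ty K) (core : ∀ K ∈ Om, OO K = ⊥) {K : Subgroup G} (hK : K ∈ Om) (hKH : K ≤ H) :
    px Om H K = PT Om H K := by
  unfold px PT
  rw [FamFb.fam_eq_fb ty core, FamFb.tr_eq_bar (ty K hK) hKH]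

end Exact

end Cfsg.Agent.Cit.TwoTy
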