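import Cfsg.Agent.Cit.TwoBlk
import Cfsg.Agent.Cit.TwoTy.Def
import Cfsg.Agent.Cit.OmB3.ChartNon
import Cfsg.Agent.Cit.BDChart
import Cfsg.Agent.Nodes.MuSq

/-!
# Charts of type `A₃`, `C₂` : a third member exchanging two orthogonal members

`z_r u b² u = (b u)⁻¹ z_r (b u)` for the `μ`-element `m = u b² u` of a root not orthogonal to `r`: if `z_r = z_s` and `m`
exchanges `r` and `± s`, then `z_r m` is the involution of a member conjugate to `K_r`, it commutes with `z_r` and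
exchanges `K_r` and `K_s`.
-/

set_option autoImplicit false
set_option linter.unusedSectionVars false
set_option linter.unusedVariables false
set_option linter.dupNamespace false
set_option linter.unusedSimpArgs false

namespace Cfsg.Agent.Cit.TwoTy

open CoxeterSystem Cfsg.Agent.ChevalleyStructure.CoxeterGeom Cfsg.Agent.Tits.Roots Cfsg.Agent.Nodes
  Cfsg.Agent.Nodes.BNOf Cfsg.Agent.Nodes.Chart Cfsg.Agent.Nodes.RGDLib Cfsg.Agent.Nodes.Reps
  Cfsg.Agent.Nodes.RootsA Cfsg.Agent.Nodes.Coroot Cfsg.Agent.Nodes.TyStd Cfsg.Agent.Nodes.MuSq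
open Cfsg.Agent.LieRecognition.BNCox (cA cA_apply)
open Cfsg.Agent.Cit.OmB3.LinChart Cfsg.Agent.Cit.OmB3.ChartNon

/-! ### Products with an involution -/

section abs

variable {Y : Type*} [Group Y]

/-- `z m` is conjugate to `z` -/
def Sw (z : Y) (X : Subgroup Y) (m : Y) : Prop := m ∈ X ∧ ∃ g ∈ X, z * m = g⁻¹ * z * g

theorem Sw.mono {z m : Y} {X X' : Subgroup Y} (h : Sw z X m) (hle : X ≤ X') : Sw z X' m := by
  obtain ⟨h1, g, hg, e⟩ := h
  exact ⟨hle h1, g, hle hg, e⟩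

theorem sw_of {z u b : Y} {X : Subgroup Y} (hu : u ∈ X) (hb : b ∈ X) (hz : z * z = 1) (h1 : z * u * z = u⁻¹)
    (h2 : z * b * z = b⁻¹) : Sw z X (u * (b * b) * u) := by
  refine ⟨mul_mem (mul_mem hu (mul_mem hb hb)) hu, b * u, mul_mem hb hu, ?_⟩
  have e1 : u⁻¹ * z = z * u := by rw [← h1, mul_assoc, hz, mul_one]
  have e2 : b⁻¹ * z = z * b := by rw [← h2, mul_assoc, hz, mul_one]
  calc z * (u * (b * b) * u) = (z * u) * b * b * u := by group
    _ = u⁻¹ * (z * b) * b * u := by rw [← e1]; group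
    _ = (b * u)⁻¹ * z * (b * u) := by rw [← e2]; group

theorem Sw.mul {z m₁ m₂ : Y} {X₁ X₂ : Subgroup Y} (h1 : Sw z X₁ m₁) (h2 : Sw z X₂ m₂)
    (hc : ∀ a ∈ X₁, ∀ b ∈ X₂, a * b = b * a) : Sw z (X₁ ⊔ X₂) (m₂ * m₁) := by
  obtain ⟨h3, g₁, hg₁, e₁⟩ := h1
  obtain ⟨h4, g₂, hg₂, e₂⟩ := h2
  refine ⟨mul_mem (Subgroup.mem_sup_right h4) (Subgroup.mem_sup_left h3), g₁ * g₂,
    mul_mem (Subgroup.mem_sup_left hg₁) (Subgroup.mem_sup_right hg₂), ?_⟩
  calc z * (m₂ * m₁) = (z * m₂) * m₁ := by group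
    _ = g₂⁻¹ * z * (g₂ * m₁) := by rw [e₂]; group
    _ = g₂⁻¹ * (z * m₁) * g₂ := by rw [← hc m₁ h3 g₂ hg₂]; group
    _ = (g₁ * g₂)⁻¹ * z * (g₁ * g₂) := by rw [e₁]; group

end abs

/-! ### One root -/

section root

variable {I W Y : Type*} [Fintype I] [DecidableEq I] [Group W] [Fintype W] [Group Y] {M : CoxeterMatrix I}
  {cs : CoxeterSystem M W} {A : I → I → ℤ} {h : IsCartan M A} {p : ℕ} {T : Subgroup Y} {n : I → Y}
  {X : (I → ℤ) → Subgroup Y}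

theorem mu_unique_pair (R : RGD cs h p T n X) {x : I → ℤ} (hx : IsRoot cs h x) {a u v u' v' : Y} {w : W}
    (hu : u ∈ X (-x)) (hv : v ∈ X (-x)) (hu' : u' ∈ X (-x)) (hv' : v' ∈ X (-x)) (hw : Rp cs R.nsys w (u * a * v))
    (hw' : Rp cs R.nsys w (u' * a * v')) (e : rep cs h w x = -x) : u' = u ∧ v' = v := by
  set m := u * a * v with hm
  set m' := u' * a * v' with hm'
  have h1 : m' = (u' * u⁻¹) * m * (v⁻¹ * v') := by rw [hm, hm']; group
  have h3 : m⁻¹ * (u' * u⁻¹) * m ∈ X x := by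
    have := R.conj_mem' hw hx.neg (mul_mem hu' (inv_mem hu))
    have e2 : rep cs h w⁻¹ (-x) = x := by rw [← e, rep_inv_apply]
    rwa [e2] at this
  have h4 : m⁻¹ * m' = (m⁻¹ * (u' * u⁻¹) * m) * (v⁻¹ * v') := by rw [h1]; group
  have h5 : m⁻¹ * m' ∈ T := by
    have := hw.inv.mul hw'
    rw [inv_mul_cancel] at this
    exact this.mem_of_one
  rw [h4] at h5
  obtain ⟨h6, h7⟩ := eq_one_of_mul R hx h3 (mul_mem (inv_mem hv) hv') h5
  refine ⟨?_, (inv_mul_eq_one.1 h7).symm⟩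
  have h8 : u' * u⁻¹ = 1 := by
    have : u' * u⁻¹ = m * (m⁻¹ * (u' * u⁻¹) * m) * m⁻¹ := by group
    rw [this, h6]; group
  exact mul_inv_eq_one.1 h8

variable {RR : Set (I → ℤ)} {Z : (I → ℤ) → Subgroup Y} {z : (I → ℤ) → Y}

/-- the `μ`-element in the form `u b² u` -/
theorem exists_sw (C : Cls cs h p T n X RR Z z) (hp : p.Prime) (hp2 : p ≠ 2) {r y : I → ℤ} (hr : r ∈ RR)
    (hy : IsRoot cs h y) (hne : y ≠ r) (hne' : y ≠ -r) (hf : form cs h y r ≠ 0) :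
    ∃ (m : Y) (w : W), Sw (z r) (X y ⊔ X (-y)) m ∧ Rp cs C.rgd.nsys w m ∧
      ∀ x, rep cs h w x = x - cpr cs h x y • y := by
  obtain ⟨⟨a, ha⟩, ha1⟩ := Subgroup.ne_bot_iff_exists_ne_one.1 (Bruhat.X_ne_bot C.rgd hy)
  have ha1' : a ≠ 1 := fun e => ha1 (Subtype.ext e)
  obtain ⟨u, hu, v, hv, w, hw, hwi, he⟩ := exists_mu' C.rgd hy ha ha1'
  have hzz := C.z_sq r hr
  have hey : rep cs h w y = -y := by
    rw [he, cpr_self cs h hy]
    have : y - (2 : ℤ) • y = -y := by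
      funext k
      simp only [Pi.sub_apply, Pi.smul_apply, smul_eq_mul, Pi.neg_apply]
      ring
    exact this
  have hf' : form cs h (-y) r ≠ 0 := by rw [form_neg_left]; exact neg_ne_zero.2 hf
  have i1 : ∀ b ∈ X y, z r * b * z r = b⁻¹ := C.z_inv r hr y hy hne hne' hf
  have i2 : ∀ b ∈ X (-y), z r * b * z r = b⁻¹ := fun b hb =>
    C.z_inv r hr (-y) hy.neg (fun e => hne' (by rw [← e, neg_neg])) (fun e => hne (neg_injective e)) hf' b hb
  have h1 : z r * (u * a * v) * z r = u⁻¹ * a⁻¹ * v⁻¹ := by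
    calc z r * (u * a * v) * z r = (z r * u * z r) * (z r * a * z r) * (z r * v * z r) := by
          calc z r * (u * a * v) * z r = z r * u * 1 * a * 1 * v * z r := by group
            _ = z r * u * (z r * z r) * a * (z r * z r) * v * z r := by rw [hzz]
            _ = _ := by group
      _ = u⁻¹ * a⁻¹ * v⁻¹ := by rw [i1 a ha, i2 u hu, i2 v hv]
  have hz1 : Rp cs C.rgd.nsys 1 (z r) := rp_of_mem (cs := cs) (hN := C.rgd.nsys) (C.z_torus r hr)
  have h2 : Rp cs C.rgd.nsys w (u⁻¹ * a⁻¹ * v⁻¹) := by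
    rw [← h1]
    have := (hz1.mul hw).mul hz1
    rwa [one_mul, mul_one] at this
  have h3 : Rp cs C.rgd.nsys w (v⁻¹ * a⁻¹ * u⁻¹) := by
    have := hw.inv
    rw [hwi] at this
    have e : (u * a * v)⁻¹ = v⁻¹ * a⁻¹ * u⁻¹ := by group
    rwa [e] at this
  obtain ⟨h4, -⟩ := mu_unique_pair C.rgd hy (inv_mem hu) (inv_mem hv) (inv_mem hv) (inv_mem hu) h2 h3 hey
  have huv : v = u := inv_injective h4
  -- the square root of `a`
  obtain ⟨k, hk⟩ := C.rgd.pgrp' hy ⟨a, ha⟩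
  have hk' : a ^ p ^ k = 1 := congrArg Subtype.val hk
  obtain ⟨l, hl⟩ : Odd (p ^ k) := (hp.eq_two_or_odd'.resolve_left hp2).pow
  have hb : a = a ^ (l + 1) * a ^ (l + 1) := by
    rw [← pow_add, show l + 1 + (l + 1) = (2 * l + 1) + 1 by ring, ← hl, pow_succ, hk', one_mul]
  refine ⟨u * (a ^ (l + 1) * a ^ (l + 1)) * u, w, ?_, ?_, he⟩
  · exact sw_of (Subgroup.mem_sup_right hu) (Subgroup.mem_sup_left (pow_mem ha _)) hzz (i2 u hu) (i1 _ (pow_mem ha _))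
  · rw [← hb]
    rw [huv] at hw
    exact hw

/-- `m` commutes with `z r` and maps `K_r` to `K_s` -/
structure Tr (C : Cls cs h p T n X RR Z z) (r s : I → ℤ) (m : Y) : Prop where
  sw : Sw (z r) (G1 cs h X) m
  comm : m * z r = z r * m
  map : cj m (Z r ⊔ Z (-r)) = Z s ⊔ Z (-s)

theorem tr_of (C : Cls cs h p T n X RR Z z) {r s : I → ℤ} (hr : r ∈ RR) (hs : s ∈ RR) (hz : z r = z s) {m : Y} {w : W}
    (sw : Sw (z r) (G1 cs h X) m) (hw : Rp cs C.rgd.nsys w m) (e : rep cs h w r = s ∨ rep cs h w r = -s) :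
    Tr C r s m := by
  have hr' : -r ∈ RR := ClsNorm.neg_mem C hr
  have h1 : m * z r * m⁻¹ = z r := by
    rw [ClsNorm.conj_z C hw hr, hz]
    rcases e with e | e
    · rw [e]
    · rw [e, C.z_neg s hs]
  refine ⟨sw, mul_inv_eq_iff_eq_mul.1 h1, ?_⟩
  have h2 : cj m (Z r ⊔ Z (-r)) = Z (rep cs h w r) ⊔ Z (-rep cs h w r) := by
    have h3 : cj m (Z r ⊔ Z (-r)) = cj m (Z r) ⊔ cj m (Z (-r)) := Subgroup.map_sup _ _ _
    have h4 : cj m (Z r) = Z (rep cs h w r) := ClsNorm.conj_Z C hw hr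
    have h5 : cj m (Z (-r)) = Z (-rep cs h w r) := by
      have := ClsNorm.conj_Z C hw hr'
      rw [map_neg] at this
      exact this
    rw [h3, h4, h5]
  rw [h2]
  rcases e with e | e
  · rw [e]
  · rw [e, neg_neg, sup_comm]

/-- one reflection -/
theorem exists_tr_one (C : Cls cs h p T n X RR Z z) (hp : p.Prime) (hp2 : p ≠ 2) {r s y : I → ℤ} (hr : r ∈ RR)
    (hs : s ∈ RR) (hz : z r = z s) (hy : IsRoot cs h y) (hne : y ≠ r) (hne' : y ≠ -r) (hf : form cs h y r ≠ 0)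
    (e : r - cpr cs h r y • y = s ∨ r - cpr cs h r y • y = -s) : ∃ m, Tr C r s m := by
  obtain ⟨m, w, h1, h2, h3⟩ := exists_sw C hp hp2 hr hy hne hne' hf
  refine ⟨m, tr_of C hr hs hz (h1.mono (sup_le (X_le_G1 hy) (X_le_G1 hy.neg))) h2 ?_⟩
  rw [h3]; exact e

/-- two commuting reflections -/
theorem exists_tr_two (C : Cls cs h p T n X RR Z z) (hp : p.Prime) (hp2 : p ≠ 2) {r s y₁ y₂ : I → ℤ} (hr : r ∈ RR)
    (hs : s ∈ RR) (hz : z r = z s) (hy₁ : IsRoot cs h y₁) (hne₁ : y₁ ≠ r) (hne₁' : y₁ ≠ -r)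
    (hf₁ : form cs h y₁ r ≠ 0) (hy₂ : IsRoot cs h y₂) (hne₂ : y₂ ≠ r) (hne₂' : y₂ ≠ -r) (hf₂ : form cs h y₂ r ≠ 0)
    (hc : ∀ a ∈ X y₁ ⊔ X (-y₁), ∀ b ∈ X y₂ ⊔ X (-y₂), a * b = b * a)
    (e : (r - cpr cs h r y₁ • y₁) - cpr cs h (r - cpr cs h r y₁ • y₁) y₂ • y₂ = s ∨
      (r - cpr cs h r y₁ • y₁) - cpr cs h (r - cpr cs h r y₁ • y₁) y₂ • y₂ = -s) : ∃ m, Tr C r s m := by
  obtain ⟨m₁, w₁, h1, h2, h3⟩ := exists_sw C hp hp2 hr hy₁ hne₁ hne₁' hf₁
  obtain ⟨m₂, w₂, k1, k2, k3⟩ := exists_sw C hp hp2 hr hy₂ hne₂ hne₂' hf₂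
  have hle : ∀ {y : I → ℤ}, IsRoot cs h y → X y ⊔ X (-y) ≤ G1 cs h X := fun hy =>
    sup_le (X_le_G1 hy) (X_le_G1 hy.neg)
  refine ⟨m₂ * m₁, tr_of C hr hs hz ((h1.mul k1 hc).mono (sup_le (hle hy₁) (hle hy₂))) (k2.mul h2) ?_⟩
  rw [rep_mul_apply, h3, k3]
  exact e

end root

/-! ### Type `C₂` -/

section typeC

open Cfsg.Agent.Nodes.TypeC Cfsg.Agent.Nodes.TypeCForm Cfsg.Agent.Nodes.KindBC Cfsg.Agent.Nodes.RKindsBC

variable {n : ℕ} {W Y : Type*} [Group W] [Fintype W] [Group Y] {cs : CoxeterSystem (CoxeterMatrix.B n) W}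
  {p : ℕ} {T : Subgroup Y} {t : Fin n → Y} {X : (Fin n → ℤ) → Subgroup Y} {RR : Set (Fin n → ℤ)}
  {Z : (Fin n → ℤ) → Subgroup Y} {z : (Fin n → ℤ) → Y}

theorem exists_tr_C (C : Cls cs (TypeC.isCartan n) p T t X RR Z z) (hp : p.Prime) (hp2 : p ≠ 2)
    {a b : Fin n × Bool} (hab : a.1 ≠ b.1) (hr : rt a a ∈ RR) (hs : rt b b ∈ RR) (hz : z (rt a a) = z (rt b b)) :
    ∃ m, Tr C (rt a a) (rt b b) m := by
  have hy : IsRoot cs (TypeC.isCartan n) (rt a b) := isRoot_rt cs (Or.inl hab)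
  have e1 : cpr cs (TypeC.isCartan n) (rt a a) (rt a b) = 2 := by
    rw [cpr_rt cs _ hab, ee_rt]
    have h1 : (wt a + wt a) a.1 = 2 * sn a := by
      rw [Pi.add_apply, wt_apply, if_pos rfl]
      unfold sn
      ring
    have h2 : (wt a + wt a) b.1 = 0 := by
      rw [Pi.add_apply, wt_apply, if_neg hab.symm, add_zero]
    rw [h1, h2, zero_mul, add_zero, mul_assoc, sn_mul_self, mul_one]
  have hne : rt a b ≠ rt a a := by
    intro e
    have h1 := congrArg ee e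
    rw [ee_rt, ee_rt] at h1
    exact hab (congrArg Prod.fst (wt_injective (add_left_cancel h1))).symm
  have hne' : rt a b ≠ -rt a a := by
    intro e
    have h1 := congrFun (congrArg ee e) b.1
    rw [ee_neg, ee_rt, ee_rt, Pi.add_apply, Pi.neg_apply, Pi.add_apply, wt_apply, wt_apply, if_pos rfl,
      if_neg hab.symm] at h1
    split_ifs at h1 <;> omega
  refine exists_tr_one C hp hp2 hr hs hz hy hne hne' ?_ (Or.inr ?_)
  · intro h0
    have h1 : form cs (TypeC.isCartan n) (rt a a) (rt a b) = 0 := by rw [form_comm]; exact h0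
    rw [← cpr_zero_iff cs _ _ hy, e1] at h1
    omega
  · rw [e1]
    apply ee_injective
    have h1 : ee (rt a a - (2 : ℤ) • rt a b) = ee (rt a a) + ee ((-2 : ℤ) • rt a b) := by
      rw [← ee_add]
      congr 1
      module
    rw [h1, ee_smul, ee_neg, ee_rt, ee_rt, ee_rt]
    module

end typeC

/-! ### Type `A₃` -/

section typeA

variable {n : ℕ} {W : Type*} [Group W] [Fintype W] {cs : CoxeterSystem (cA n) W} {A : Fin n → Fin n → ℤ}
  {h : IsCartan (cA n) A} {Y : Type*} [Group Y] {p : ℕ} {T : Subgroup Y} {t : Fin n → Y}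
  {X : (Fin n → ℤ) → Subgroup Y} {RR : Set (Fin n → ℤ)} {Z : (Fin n → ℤ) → Subgroup Y} {z : (Fin n → ℤ) → Y}

theorem comm_of_two {G : Type*} [Group G] {P P' Q Q' : Subgroup G} (h1 : ∀ a ∈ P, ∀ b ∈ Q, a * b = b * a)
    (h2 : ∀ a ∈ P, ∀ b ∈ Q', a * b = b * a) (h3 : ∀ a ∈ P', ∀ b ∈ Q, a * b = b * a)
    (h4 : ∀ a ∈ P', ∀ b ∈ Q', a * b = b * a) : ∀ a ∈ P ⊔ P', ∀ b ∈ Q ⊔ Q', a * b = b * a := by
  intro a ha b hb
  have k1 : Q ⊔ Q' ≤ Subgroup.centralizer ((P ⊔ P' : Subgroup G) : Set G) := by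
    rw [Subgroup.le_centralizer_iff]
    refine sup_le ?_ ?_
    · intro a ha
      have : Q ⊔ Q' ≤ Subgroup.centralizer {a} := by
        refine sup_le (fun b hb => ?_) fun b hb => ?_
        · exact Subgroup.mem_centralizer_singleton_iff.2 (h1 a ha b hb).symm
        · exact Subgroup.mem_centralizer_singleton_iff.2 (h2 a ha b hb).symm
      exact Subgroup.mem_centralizer_iff.2 fun b hb => Subgroup.mem_centralizer_singleton_iff.1 (this hb)
    · intro a ha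
      have : Q ⊔ Q' ≤ Subgroup.centralizer {a} := by
        refine sup_le (fun b hb => ?_) fun b hb => ?_
        · exact Subgroup.mem_centralizer_singleton_iff.2 (h3 a ha b hb).symm
        · exact Subgroup.mem_centralizer_singleton_iff.2 (h4 a ha b hb).symm
      exact Subgroup.mem_centralizer_iff.2 fun b hb => Subgroup.mem_centralizer_singleton_iff.1 (this hb)
  exact Subgroup.mem_centralizer_iff.1 (k1 hb) a ha

theorem exists_tr_A (C : Cls cs h p T t X RR Z z) (hp : p.Prime) (hp2 : p ≠ 2) {a b c d : Fin (n + 1)}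
    (hab : a ≠ b) (hac : a ≠ c) (had : a ≠ d) (hbc : b ≠ c) (hbd : b ≠ d) (hcd : c ≠ d)
    (hr : rtA a b ∈ RR) (hs : rtA c d ∈ RR) (hz : z (rtA a b) = z (rtA c d)) :
    ∃ m, Tr C (rtA a b) (rtA c d) m := by
  have hf : ∀ {i j : Fin (n + 1)}, i ≠ j → cpr cs h (rtA i j) (rtA a b) ≠ 0 → form cs h (rtA i j) (rtA a b) ≠ 0 := by
    intro i j hij h1 h2
    exact h1 ((cpr_zero_iff cs h _ (isRoot_rtA cs h hab)).2 h2)
  have neg : ∀ i j : Fin (n + 1), X (-rtA i j) = X (rtA j i) := fun i j => by rw [rtA_neg]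
  refine exists_tr_two C hp hp2 (y₁ := rtA a c) (y₂ := rtA b d) hr hs hz (isRoot_rtA cs h hac)
    (fun e => hbc (rtA_inj hac e).2.symm) ?_ (hf hac ?_) (isRoot_rtA cs h hbd)
    (fun e => hab (rtA_inj hbd e).1.symm) ?_ (hf hbd ?_) ?_ (Or.inl ?_)
  · intro e
    rw [rtA_neg] at e
    exact hab (rtA_inj hac e).1
  · rw [CommA.cpr_rtA cs h a c hab]
    simp [hab, hac, had, hbc, hbd, hcd, hab.symm, hac.symm, had.symm, hbc.symm, hbd.symm, hcd.symm]
  · intro e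
    rw [rtA_neg] at e
    exact had (rtA_inj hbd e).2.symm
  · rw [CommA.cpr_rtA cs h b d hab]
    simp [hab, hac, had, hbc, hbd, hcd, hab.symm, hac.symm, had.symm, hbc.symm, hbd.symm, hcd.symm]
  · rw [neg, neg]
    refine comm_of_two ?_ ?_ ?_ ?_
    · exact fun u hu v hv => CommA.comm_disj C.rgd hac hbd hbc.symm had (fun e => hab e.1) hu hv
    · exact fun u hu v hv => CommA.comm_disj C.rgd hac hbd.symm hcd hab (fun e => had e.1) hu hv
    · exact fun u hu v hv => CommA.comm_disj C.rgd hac.symm hbd hab hcd (fun e => hbc e.1.symm) hu hv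
    · exact fun u hu v hv => CommA.comm_disj C.rgd hac.symm hbd.symm had hbc.symm (fun e => hcd e.1) hu hv
  · rw [refl_rtA cs h hac, refl_rtA cs h hbd, Equiv.swap_apply_left, Equiv.swap_apply_of_ne_of_ne hab.symm hbc,
      Equiv.swap_apply_of_ne_of_ne hbc.symm hcd, Equiv.swap_apply_left]

end typeA

/-! ### Charts -/

section chart

open Cfsg.Agent.Nodes.TypeC Cfsg.Agent.Nodes.TypeCForm Cfsg.Agent.Nodes.KindBC Cfsg.Agent.Nodes.RKindsBC

variable {G : Type*} [Group G] [Finite G] {Om : Set (Subgroup G)} {p : ℕ} {D : Subgroup G}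

/-- the exchange for a chart -/
theorem exists_exch (c : Chart Om p D) (hτ : c.IsTy (.A 3) ∨ c.IsTy (.C 2)) {r : c.I → ℤ} (hr : r ∈ c.R) :
    ∃ s ∈ c.R, form c.cs c.h s r = 0 ∧ (c.z r = c.z s → ∃ m ∈ D, (∃ g ∈ D, c.z r * m = g⁻¹ * c.z r * g) ∧
      m * c.z r = c.z r * m ∧ cj m (c.Z r ⊔ c.Z (-r)) = c.Z s ⊔ c.Z (-s)) := by
  rcases hτ with hτ | hτ
  · obtain ⟨e, W', _, _, cs', A', h', hroot, hR, C⟩ := exists_std c hτ
    have inv : ∀ x : c.I → ℤ, (fun i => (fun j => x (e.symm j)) (e i)) = x := fun x => by funext i; simp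
    obtain ⟨a, b, hab, rfl⟩ : ∃ a b : Fin 4, a ≠ b ∧ r = fun i => rtA a b (e i) := by
      have h1 : IsRoot cs' h' (fun j => r (e.symm j)) := by
        rw [← hroot, inv]
        exact c.cls.root r hr
      obtain ⟨a, b, hab, h2⟩ := exists_of_isRoot cs' _ h1
      exact ⟨a, b, hab, by rw [← h2, inv]⟩
    obtain ⟨k, l, hkl, hka, hkb, hla, hlb⟩ := fin4_compl a b hab
    refine ⟨fun i => rtA k l (e i), hR _ (isRoot_rtA cs' h' hkl), ?_, fun hz => ?_⟩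
    · rw [form_zero_iff c e hroot (fun x hx => hR x hx) C (isRoot_rtA cs' h' hkl) (isRoot_rtA cs' h' hab),
        CommA.cpr_rtA cs' h' k l hab, if_neg hka, if_neg hkb, if_neg hla, if_neg hlb]
      norm_num
    · obtain ⟨m, h1⟩ := exists_tr_A C c.prime c.odd hab hka.symm hla.symm hkb.symm hlb.symm hkl
        (isRoot_rtA cs' h' hab) (isRoot_rtA cs' h' hkl) hz
      obtain ⟨h2, g, hg, h3⟩ := h1.sw
      have hle : G1 cs' h' (fun x => c.X (fun i => x (e i))) ≤ D := by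
        refine le_trans ?_ c.gen.le
        exact RGD.Sup_le fun x hx => X_le_G1 ((hroot x).2 hx)
      exact ⟨m, hle h2, ⟨g, hle hg, h3⟩, h1.comm, h1.map⟩
  · obtain ⟨e, W', _, _, cs', hroot, hR, C⟩ := exists_stdC c hτ
    have hR' : ∀ x ∈ RC 2, (fun i => x (e i)) ∈ c.R := fun x hx => (hR x (root_RC cs' hx)).2 hx
    have inv : ∀ x : c.I → ℤ, (fun i => (fun j => x (e.symm j)) (e i)) = x := fun x => by funext i; simp
    obtain ⟨a, rfl⟩ : ∃ a : Fin 2 × Bool, r = fun i => rt a a (e i) := by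
      have h1 : IsRoot cs' (TypeC.isCartan 2) (fun j => r (e.symm j)) := by
        rw [← hroot, inv]
        exact c.cls.root r hr
      have h2 : (fun j => r (e.symm j)) ∈ RC 2 := by
        rw [← hR _ h1, inv]
        exact hr
      obtain ⟨a, h3⟩ := mem_RC.1 h2
      exact ⟨a, by rw [← h3, inv]⟩
    obtain ⟨b, hab⟩ : ∃ b : Fin 2 × Bool, a.1 ≠ b.1 := by
      obtain ⟨a1, a2⟩ := a
      refine ⟨(1 - a1, a2), ?_⟩
      show a1 ≠ 1 - a1
      clear hr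
      revert a1
      decide
    refine ⟨fun i => rt b b (e i), hR' _ (rt_mem_RC b), ?_, fun hz => ?_⟩
    · rw [form_zero_iff c e hroot hR' C (isRoot_rt cs' (Or.inr rfl)) (rt_mem_RC a), cpr_rt_self cs', ee_rt,
        Pi.add_apply, wt_apply, if_neg hab]
      norm_num
    · obtain ⟨m, h1⟩ := exists_tr_C C c.prime c.odd hab (rt_mem_RC a) (rt_mem_RC b) hz
      obtain ⟨h2, g, hg, h3⟩ := h1.sw
      have hle : G1 cs' (TypeC.isCartan 2) (fun x => c.X (fun i => x (e i))) ≤ D := by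
        refine le_trans ?_ c.gen.le
        exact RGD.Sup_le fun x hx => X_le_G1 ((hroot x).2 hx)
      exact ⟨m, hle h2, ⟨g, hle hg, h3⟩, h1.comm, h1.map⟩

theorem nontrivial_I (c : Chart Om p D) (hτ : c.IsTy (.A 3) ∨ c.IsTy (.C 2)) : Nontrivial c.I := by
  rcases hτ with ⟨e, -⟩ | ⟨e, -⟩
  · exact e.nontrivial (β := Fin 3)
  · exact e.nontrivial (β := Fin 2)

end chart

/-! ### Blocks -/

section blk

open TwoBlk UseT OneBasic
open Cfsg.Agent.Cit.TypeDet (cm)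

variable {X : Type*} [Group X] [Finite X] {F : Set (Subgroup X)} {D K K' : Subgroup X}

theorem _root_.Cfsg.Agent.Cit.TwoBlk.LeTwo.eq_or (h : LeTwo F) {K L M : Subgroup X} (hK : K ∈ F) (hL : L ∈ F)
    (hM : M ∈ F) (hne : K ≠ L) (hz : zz L = zz K) (hz' : zz M = zz K) : M = K ∨ M = L := by
  obtain ⟨S, hS, -⟩ := h.hyp.exists_sylow hK
  exact h.pair S.isPGroup' hS (h.hyp.mem_OmS_of_zz_eq S hS hL hz) (h.hyp.mem_OmS_of_zz_eq S hS hM hz') hne

/-- commuting members have the same involution -/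
theorem _root_.Cfsg.Agent.Cit.TwoBlk.LeTwo.zz_eq (h : LeTwo F) {K L : Subgroup X} (hK : K ∈ F) (hL : L ∈ F)
    (hc : ∀ a ∈ K, ∀ b ∈ L, a * b = b * a) : zz K = zz L := by
  have : Fact (Nat.Prime 2) := ⟨Nat.prime_two⟩
  obtain ⟨Q, hQ⟩ := Hyp.exists_syl K
  obtain ⟨Q', hQ'⟩ := Hyp.exists_syl L
  have hn : Q ≤ Subgroup.normalizer (Q' : Set X) := by
    intro x hx
    exact mem_normalizer_of_cent fun y hy => hc x (hQ.1 hx) y (hQ'.1 hy)
  exact h.eqz (hQ.2.1.to_sup_of_normal_right' hQ'.2.1 hn) (mem_OmS_of_le hK hQ le_sup_left)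
    (mem_OmS_of_le hL hQ' le_sup_right)

/-- **the exchange in a block of type `A₃`, `C₂`** -/
theorem swap_of_tyD (b : Blk F D K K') {q k : ℕ} {τ : Nodes.Chart.Ty} (hτ : τ = .A 3 ∨ τ = .C 2) (t : TyD F D q τ k) :
    ∃ M ∈ F, M ≤ D ∧ zz M * zz K = zz K * zz M ∧ cj (zz M) K = K' := by
  obtain ⟨-, -, -, p, -, c, -, -, hty, -, -, -⟩ := t
  have hτ' : c.IsTy (.A 3) ∨ c.IsTy (.C 2) := by
    rcases hτ with rfl | rfl
    · exact Or.inl hty
    · exact Or.inr hty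
  have hyp := b.le.hyp
  have hnt := nontrivial_I c hτ'
  obtain ⟨r, hr, g, hg, hK⟩ := c.om_conj K b.hK b.KD
  replace hK : K = cj g (c.Z r ⊔ c.Z (-r)) := hK
  obtain ⟨s, hs, h0, h1⟩ := exists_exch c hτ' hr
  have hr' : -r ∈ c.R := ClsNorm.neg_mem c.cls hr
  have hs' : -s ∈ c.R := ClsNorm.neg_mem c.cls hs
  have mr : c.Z r ⊔ c.Z (-r) ∈ F := c.om r hr
  have ms : c.Z s ⊔ c.Z (-s) ∈ F := c.om s hs
  have h0' : form c.cs c.h r s = 0 := by rw [form_comm]; exact h0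
  have hcc : ∀ a ∈ c.Z r ⊔ c.Z (-r), ∀ b ∈ c.Z s ⊔ c.Z (-s), a * b = b * a := by
    have k1 : ∀ r' ∈ c.R, ∀ s' ∈ c.R, form c.cs c.h r' s' = 0 → ∀ a ∈ c.Z r', ∀ b ∈ c.Z s', a * b = b * a := by
      intro r' hr' s' hs' hf a ha b hb
      exact c.cls.cent s' hs' r' (c.cls.root r' hr') hf.ge a (c.cls.le r' hr' ha) b hb
    refine comm_of_two (k1 r hr s hs h0') (k1 r hr (-s) hs' ?_) (k1 (-r) hr' s hs ?_) (k1 (-r) hr' (-s) hs' ?_)
    · rw [form_neg_right, h0', neg_zero]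
    · rw [form_neg_left, h0', neg_zero]
    · rw [form_neg_right, form_neg_left, h0', neg_zero, neg_zero]
  have hne : c.Z r ⊔ c.Z (-r) ≠ c.Z s ⊔ c.Z (-s) := by
    intro e
    refine BDTwin.not_cm_self hyp mr ?_
    intro a ha b hb
    exact hcc a ha b (by rw [← e]; exact hb)
  have hzz : zz (c.Z r ⊔ c.Z (-r)) = zz (c.Z s ⊔ c.Z (-s)) := b.le.zz_eq mr ms hcc
  have hzr := BDChart.zz_eq hyp c hnt hr
  have hzs := BDChart.zz_eq hyp c hnt hs
  obtain ⟨m, hm, ⟨d, hd, h2⟩, h3, h4⟩ := h1 (by rw [← hzr, ← hzs, hzz])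
  have hZD : ∀ r ∈ c.R, c.Z r ≤ D := fun r hr => (c.cls.le r hr).trans ((X_le_G1 (c.cls.root r hr)).trans c.gen.le)
  have hrD : c.Z r ⊔ c.Z (-r) ≤ D := sup_le (hZD r hr) (hZD (-r) hr')
  -- the member over `z m`
  set M₀ := cj d⁻¹ (c.Z r ⊔ c.Z (-r)) with hM₀
  have hM₀F : M₀ ∈ F := hyp.conj _ mr _
  have hz₀ : zz M₀ = c.z r * m := by
    rw [hM₀, hyp.zz_cj mr, hzr, inv_inv, h2]
  have hM₀D : M₀ ≤ D := by
    rw [hM₀]
    rintro _ ⟨x, hx, rfl⟩
    simp only [MulEquiv.coe_toMonoidHom, MulAut.conj_apply, inv_inv]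
    exact mul_mem (mul_mem (inv_mem hd) (hrD hx)) hd
  have hcj : cj (zz M₀) (c.Z r ⊔ c.Z (-r)) = c.Z s ⊔ c.Z (-s) := by
    rw [hz₀, cj_mul, h4]
    refine cj_eq_of_mem ?_
    rw [← hzr, hzz]
    exact hyp.zz_mem ms
  refine ⟨cj g M₀, hyp.conj _ hM₀F g, ?_, ?_, ?_⟩
  · rintro _ ⟨x, hx, rfl⟩
    simp only [MulEquiv.coe_toMonoidHom, MulAut.conj_apply]
    exact mul_mem (mul_mem hg (hM₀D hx)) (inv_mem hg)
  · have e1 : zz (cj g M₀) = g * (c.z r * m) * g⁻¹ := by rw [hyp.zz_cj hM₀F, hz₀]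
    rw [e1, hK, hyp.zz_cj mr, hzr]
    calc g * (c.z r * m) * g⁻¹ * (g * c.z r * g⁻¹) = g * (c.z r * (m * c.z r)) * g⁻¹ := by group
      _ = g * (c.z r * (c.z r * m)) * g⁻¹ := by rw [h3]
      _ = _ := by group
  · have h5 : cj (zz (cj g M₀)) K = cj g (c.Z s ⊔ c.Z (-s)) := by
      rw [hyp.zz_cj hM₀F, hK, ← hcj, ← cj_mul, ← cj_mul]
      congr 1
      group
    rw [h5]
    have h6 : zz (cj g (c.Z s ⊔ c.Z (-s))) = zz K := by
      rw [hyp.zz_cj ms, hK, hyp.zz_cj mr, hzz]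
    have h7 : K ≠ cj g (c.Z s ⊔ c.Z (-s)) := by
      rw [hK]
      exact fun e => hne (cj_inj.1 e)
    rcases b.le.eq_or b.hK (hyp.conj _ ms g) b.hK' h7 h6 b.zz_eq.symm with h8 | h8
    · exact absurd h8.symm b.ne
    · exact h8.symm

end blk

end Cfsg.Agent.Cit.TwoTy
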