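import Cfsg.Agent.Cit.TwoTy.Side
import Cfsg.Agent.Cit.TwoTy.Swap
import Cfsg.Agent.Cit.BDChart
import Cfsg.Agent.Cit.TwoTy.Exc
import Cfsg.Agent.Cit.TwoTy.Leaf
import Cfsg.Agent.Cit.CoreTwoEqId

/-!
# The types of the blocks of `C(u)` (R18, Z3, branch (B)) before the lift from `D / Z(D)`

* `cls_of_piece` : the members in a block are conjugate;
* `typed` : the type of a block not in case (B);
* `Pre.caseA_v` : case (A) for `v`; `Side.not_caseA`, `Side.not_caseB`;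
* `types_q` : the types of `D_v`, `D_u` (a `Side`), modulo the centres.
-/

set_option autoImplicit false
set_option linter.style.haveILetI false
set_option linter.unusedSectionVars false

namespace Cfsg.Agent.Cit.TwoTy

open Subgroup Cfsg OneBasic SubCent UseT TwoWT TwoBlk
open Cfsg.Agent.Cit.CoreTwoEq (CaseA CaseB L4 U4 Sp4)
open Cfsg.Agent.Cit.CoreTwoEqId (IdentTwo)
open Cfsg.Agent.Cit.TwoFK (TwoEq)
open Cfsg.Agent.Nodes.Chart
open Cfsg.Agent.Cit.TwoBlk.Blk (Fq)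

universe u

/-! ### Blocks -/

section blk

variable {X : Type u} [Group X] [Finite X] {F : Set (Subgroup X)} {D K K' : Subgroup X}

theorem ty_Fq (b : Blk F D K K') : ∀ J ∈ Fq F D, Cit.Ty J := by
  rintro _ ⟨J, hJ, rfl⟩
  exact CoreTwoNe.ty_of_equiv_inf (Ty.restr b.ty D J hJ) (b.cenC.inf J hJ)

theorem card_Kq (b : Blk F D K K') : Nat.card ((K.subgroupOf D).map (Blk.pi D)) = Nat.card K := by
  have h1 : (K.subgroupOf D) ⊓ (Blk.pi D).ker = ⊥ := b.cenC.inf _ (Blk.sub_mem b.hK b.KD)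
  have h2 : Function.Injective ((Blk.pi D).comp (K.subgroupOf D).subtype) := by
    rw [← MonoidHom.ker_eq_bot_iff, Subgroup.eq_bot_iff_forall]
    intro x hx
    have h3 : (x : D) ∈ (K.subgroupOf D) ⊓ (Blk.pi D).ker := ⟨x.2, hx⟩
    rw [h1, mem_bot] at h3
    exact Subtype.ext h3
  have h3 : (K.subgroupOf D).map (Blk.pi D) = ((Blk.pi D).comp (K.subgroupOf D).subtype).range := by
    rw [MonoidHom.range_comp, Subgroup.range_subtype]
  rw [h3, ← Nat.card_congr (MonoidHom.ofInjective h2).toEquiv]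
  exact Nat.card_congr (subgroupOfEquivOfLe b.KD).toEquiv

/-- the members in a block are conjugate -/
theorem cls_of_piece (b : Blk F D K K') (hD : Piece F D)
    (hexc : ∀ p : ℕ, p.Prime → p ≠ 2 → IsG2D4 p (↥D ⧸ center ↥D) → False) :
    ∀ M ∈ F, M ≤ D → ∃ d ∈ D, cj d K = M := by
  intro M hM hMD
  cases hD with
  | single mem =>
    exfalso
    exact b.ne ((b.le.hyp.eq_of_le b.hK mem b.KD).trans (b.le.hyp.eq_of_le b.hK' mem b.KD').symm)
  | chart nmem qs two p c τ kind ok small sl zx =>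
    obtain ⟨r, hr, g, hg, hK⟩ := c.om_conj K b.hK b.KD
    obtain ⟨s, hs, g', hg', hM'⟩ := c.om_conj M hM hMD
    obtain ⟨w, rfl⟩ := c.trans r hr s hs
    obtain ⟨n, hn⟩ := Nodes.Reps.exists_rp c.cs c.cls.rgd.nsys w
    have hr' : -r ∈ c.R := Nodes.ClsNorm.neg_mem c.cls hr
    have e : cj n (c.Z r ⊔ c.Z (-r)) = c.Z (ChevalleyStructure.CoxeterGeom.rep c.cs c.h w r) ⊔
        c.Z (-(ChevalleyStructure.CoxeterGeom.rep c.cs c.h w r)) := by
      have h3 : cj n (c.Z r ⊔ c.Z (-r)) = cj n (c.Z r) ⊔ cj n (c.Z (-r)) := Subgroup.map_sup _ _ _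
      rw [h3, BDChart.cj_Z c hn hr, BDChart.cj_Z c hn hr', map_neg]
    refine ⟨g' * n * g⁻¹, mul_mem (mul_mem hg' (BDChart.n_mem_GG c hn)) (inv_mem hg), ?_⟩
    have k1 : K = cj g (c.Z r ⊔ c.Z (-r)) := hK
    have k2 : M = cj g' (c.Z (ChevalleyStructure.CoxeterGeom.rep c.cs c.h w r) ⊔
        c.Z (-(ChevalleyStructure.CoxeterGeom.rep c.cs c.h w r))) := hM'
    rw [cj_mul, cj_mul, k2, k1, cj_inv_cj, e]
  | exc qs two p prime odd iso ne zzc three => exact (hexc p prime odd iso).elim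
  | mathieu qs two iso ne mem => exact (b.mathieu_false iso).elim

/-- **the type of a block** -/
theorem typed (id2 : IdentTwo.{u}) (b : Blk F D K K') (hcls : ∀ J ∈ F, J ≤ D → ∃ d ∈ D, cj d K = J)
    (hB : ¬ CaseB (Fq F D)) : ∃ q, 1 < q ∧ Nat.card K = q * (q ^ 2 - 1) ∧
      ((L4 (↥D ⧸ center ↥D) ∧ TyD (Fq F D) ⊤ q (.A 3) 5) ∨ (U4 (↥D ⧸ center ↥D) ∧ TyD (Fq F D) ⊤ q (.C 2) 5) ∨
        (TyD (Fq F D) ⊤ q (.C 2) 3 ∧ ¬ CaseA (Fq F D))) := by
  haveI : IsSimpleGroup (↥D ⧸ center ↥D) := b.qs.2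
  have h := b.twoEq hcls
  have ty := ty_Fq b
  have hne := b.nonempty_Fq
  have mK : (K.subgroupOf D).map (Blk.pi D) ∈ Fq F D := ⟨_, Blk.sub_mem b.hK b.KD, rfl⟩
  have hq : ∀ {q k : ℕ} {τ : Nodes.Chart.Ty}, TyD (Fq F D) ⊤ q τ k → 1 < q ∧ Nat.card K = q * (q ^ 2 - 1) :=
    fun t => ⟨Leaf.one_lt_of_tyD t, by rw [← card_Kq b]; exact Leaf.card_of_tyD t mK⟩
  rcases id2 _ (Fq F D) h hne b.tyTwo_Fq hB with hX | hX | hX
  · obtain ⟨q, t⟩ := Leaf.tyD_l4 h ty hne hX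
    exact ⟨q, (hq t).1, (hq t).2, Or.inl ⟨hX, t⟩⟩
  · obtain ⟨q, t⟩ := Leaf.tyD_u4 h ty hne hX
    exact ⟨q, (hq t).1, (hq t).2, Or.inr (Or.inl ⟨hX, t⟩)⟩
  · obtain ⟨⟨q, t⟩, hA⟩ := Leaf.tyD_sp4 h ty hne hX
    exact ⟨q, (hq t).1, (hq t).2, Or.inr (Or.inr ⟨t, hA⟩)⟩

/-- **a block in case (A) and a block not in case (A)** with members of the same order -/
theorem typed_pair (id2 : IdentTwo.{u}) (b : Blk F D K K') (hcls : ∀ J ∈ F, J ≤ D → ∃ d ∈ D, cj d K = J)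
    (hA : CaseA (Fq F D)) {Y : Type u} [Group Y] [Finite Y] {E : Set (Subgroup Y)} {C L L' : Subgroup Y}
    (b' : Blk E C L L') (hcls' : ∀ J ∈ E, J ≤ C → ∃ d ∈ C, cj d L = J) (hA' : ¬ CaseA (Fq E C))
    (hB' : ¬ CaseB (Fq E C)) (hcard : Nat.card K = Nat.card L) :
    ∃ q, (TyD (Fq F D) ⊤ q (.A 3) 5 ∧ (TyD (Fq E C) ⊤ q (.C 2) 5 ∨ TyD (Fq E C) ⊤ q (.C 2) 3)) ∨
      (TyD (Fq F D) ⊤ q (.C 2) 5 ∧ (TyD (Fq E C) ⊤ q (.A 3) 5 ∨ TyD (Fq E C) ⊤ q (.C 2) 3)) := by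
  haveI : IsSimpleGroup (↥D ⧸ center ↥D) := b.qs.2
  haveI : IsSimpleGroup (↥C ⧸ center ↥C) := b'.qs.2
  obtain ⟨q, hq1, hq, h1⟩ := typed id2 b hcls (fun hB => hB.1 hA)
  obtain ⟨q', hq1', hq', h2⟩ := typed id2 b' hcls' hB'
  have e : q' = q := Leaf.card_inj hq1' hq1 (by rw [← hq', ← hcard, hq])
  subst e
  refine ⟨q', ?_⟩
  rcases h1 with ⟨hX, t⟩ | ⟨hX, t⟩ | ⟨-, h3⟩
  · left
    refine ⟨t, ?_⟩
    rcases h2 with ⟨hY, t'⟩ | ⟨-, t'⟩ | ⟨t', -⟩
    · exact absurd (Leaf.inv_l4 (b.twoEq hcls) (ty_Fq b) b.nonempty_Fq (b'.twoEq hcls') (ty_Fq b') b'.nonempty_Fq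
        t t' hX hY hA) hA'
    · exact Or.inl t'
    · exact Or.inr t'
  · right
    refine ⟨t, ?_⟩
    rcases h2 with ⟨-, t'⟩ | ⟨hY, t'⟩ | ⟨t', -⟩
    · exact Or.inl t'
    · exact absurd (Leaf.inv_u4 (b.twoEq hcls) (ty_Fq b) b.nonempty_Fq (b'.twoEq hcls') (ty_Fq b') b'.nonempty_Fq
        t t' hX hY hA) hA'
    · exact Or.inr t'
  · exact absurd hA h3

end blk

/-! ### The order of the members -/

section card

variable {G : Type u} [Group G] [Finite G] {Om : Set (Subgroup G)}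

theorem exists_trIso (hty : ∀ K ∈ Om, IsType K) {H M : Subgroup G} (hc : ∀ J ∈ fam Om H, OO J = ⊥)
    (hM : M ∈ cov Om H) : Nonempty ((↥M ⧸ oddCore ↥M) ≃* ↥(tr H M)) := by
  have hr := UseT.isRd hty H
  have e1 := hr.quot (RdOm.mem_OmIn hM)
  have e2 := TyTrans.quotMapOdd (f := qm H) (rd (M.subgroupOf H)) (not_dvd_ker _)
  have e3 := SubCent.quotEquiv hM
  have e : (↥M ⧸ oddCore ↥M) ≃* (↥(tr H M) ⧸ oddCore ↥(tr H M)) := (e3.symm.trans e1.symm).trans e2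
  have hc1 : OO (tr H M) = ⊥ := hc _ (tr_mem hM)
  have hc' : oddCore ↥(tr H M) = ⊥ := by
    rw [OO, Subgroup.map_eq_bot_iff_of_injective _ (tr H M).subtype_injective] at hc1
    exact hc1
  have e4 : (↥(tr H M) ⧸ oddCore ↥(tr H M)) ≃* ↥(tr H M) :=
    (QuotientGroup.quotientMulEquivOfEq hc').trans QuotientGroup.quotientBot
  exact ⟨e.trans e4⟩

theorem card_tr_eq (hty : ∀ K ∈ Om, IsType K) (hU : Uni Om) {H H' M M' : Subgroup G}
    (hc : ∀ J ∈ fam Om H, OO J = ⊥) (hc' : ∀ J ∈ fam Om H', OO J = ⊥) (hM : M ∈ cov Om H) (hM' : M' ∈ cov Om H') :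
    Nat.card (tr H M) = Nat.card (tr H' M') := by
  obtain ⟨e⟩ := exists_trIso hty hc hM
  obtain ⟨e'⟩ := exists_trIso hty hc' hM'
  obtain ⟨f⟩ := hU M hM.1 M' hM'.1
  exact Nat.card_congr ((e.symm.trans f).trans e').toEquiv

end card

/-! ### `C(v)` and the sides -/

section sides

variable {G : Type u} [Group G] [Finite G] {Om : Set (Subgroup G)}

variable {K K' J Q Q' QJ : Subgroup G} {x y b c : G}

/-- the block of `C(v)` -/
theorem blk_v (h : TwoE Om) (hty : ∀ K ∈ Om, IsType K) (w : WD Om K K' J Q Q' QJ x y b c)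
    (hp : HasPieces (fam Om (centralizer {zz J * (x * y)}))) :
    Blk (fam Om (centralizer {zz J * (x * y)})) (px Om (centralizer {zz J * (x * y)}) K)
      (tr (centralizer {zz J * (x * y)}) K) (tr (centralizer {zz J * (x * y)}) K') :=
  (pre_v h w).blk h hty hp (px_v_not_mem h hty w) fun _ hM => all_v h hty w hM

theorem comm_qv {u : G} (a : HQ (centralizer {u})) :
    a * qm (centralizer {u}) ⟨u, mem_centralizer_singleton_iff.2 rfl⟩ =
      qm (centralizer {u}) ⟨u, mem_centralizer_singleton_iff.2 rfl⟩ * a := by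
  obtain ⟨g, rfl⟩ := qm_surjective _ a
  rw [← map_mul, ← map_mul]
  congr 1
  exact Subtype.ext (mem_centralizer_singleton_iff.1 g.2)

theorem cls_v (h : TwoE Om) (hty : ∀ K ∈ Om, IsType K) (w : WD Om K K' J Q Q' QJ x y b c)
    (hp : HasPieces (fam Om (centralizer {zz J * (x * y)}))) (hv : zz J * (x * y) ≠ 1) :
    ∀ M ∈ fam Om (centralizer {zz J * (x * y)}), M ≤ px Om (centralizer {zz J * (x * y)}) K →
      ∃ d ∈ px Om (centralizer {zz J * (x * y)}) K, cj d (tr (centralizer {zz J * (x * y)}) K) = M := by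
  have B := blk_v h hty w hp
  refine cls_of_piece B (px_piece h.hyp hty hp (cov_v_K h hty w)) fun p hp1 hp2 iso => ?_
  have h1 := B.exc_center hp1 hp2 iso
  have hmem := v_mem_px h hty w
  have h2 : (⟨_, hmem⟩ : ↥(px Om (centralizer {zz J * (x * y)}) K)) ∈
      center ↥(px Om (centralizer {zz J * (x * y)}) K) := by
    rw [mem_center_iff]
    intro a
    exact Subtype.ext (comm_qv (u := zz J * (x * y)) (a : HQ (centralizer {zz J * (x * y)})))
  rw [h1, mem_bot] at h2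
  have h3 := qm_eq_one_iff.1 (congrArg Subtype.val h2)
  have h4 : IsPGroup 2 (zpowers (zz J * (x * y))) := isP_inv (w.vv h.hyp)
  exact hv (eq_one_of_mem_OO h4 (mem_zpowers _) h3)

/-- **case (A) for `v`** -/
theorem caseA_v (h : TwoE Om) (hty : ∀ K ∈ Om, IsType K) (w : WD Om K K' J Q Q' QJ x y b c)
    (hp : HasPieces (fam Om (centralizer {zz J * (x * y)}))) :
    CaseA (Fq (fam Om (centralizer {zz J * (x * y)})) (px Om (centralizer {zz J * (x * y)}) K)) := by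
  have B := blk_v h hty w hp
  have p := (pre_v h w).ttp h hty
  have hmem := v_mem_px h hty w
  have hJc := cov_v_J h hty w
  have hJ := px_v h hty w w.hJ (Or.inr (Or.inl rfl))
  have hF := hyp_fam h.hyp hty (centralizer {zz J * (x * y)})
  have hcomm : ∀ a : HQ (centralizer {zz J * (x * y)}),
      a * qm (centralizer {zz J * (x * y)}) ⟨zz J * (x * y), mem_centralizer_singleton_iff.2 rfl⟩ =
      qm (centralizer {zz J * (x * y)}) ⟨zz J * (x * y), mem_centralizer_singleton_iff.2 rfl⟩ * a := comm_qv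
  have hzJ := zz_tr h.hyp hty hJc
  have hprod : qm (centralizer {zz J * (x * y)}) ⟨x, (pre_v h w).ux⟩ *
      qm (centralizer {zz J * (x * y)}) ⟨y, (pre_v h w).uy⟩ =
      zz (tr (centralizer {zz J * (x * y)}) J) *
        qm (centralizer {zz J * (x * y)}) ⟨zz J * (x * y), mem_centralizer_singleton_iff.2 rfl⟩ := by
    rw [hzJ, ← map_mul, ← map_mul]
    congr 1
    exact Subtype.ext (w.t_eq h.hyp).symm
  generalize px Om (centralizer {zz J * (x * y)}) K = D at *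
  generalize qm (centralizer {zz J * (x * y)}) ⟨zz J * (x * y), mem_centralizer_singleton_iff.2 rfl⟩ = v at *
  have hJD : tr (centralizer {zz J * (x * y)}) J ≤ D := by rw [← hJ]; exact tr_le_px
  have mJ := subgroupOf_mem_restr (tr_mem hJc) hJD
  refine caseA_of B.cenC (ttp_restr hF p B.KD B.KD') mJ ?_
  have e1 : (⟨v, hmem⟩ : D) ∈ center D := by
    rw [mem_center_iff]
    intro a
    exact Subtype.ext (hcomm (a : HQ _))
  have e2 : Blk.pi D ⟨v, hmem⟩ = 1 := (QuotientGroup.eq_one_iff _).2 e1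
  have e3 : (⟨_, B.KD p.hx⟩ : D) * ⟨_, B.KD' p.hy⟩ =
      zz ((tr (centralizer {zz J * (x * y)}) J).subgroupOf D) * ⟨v, hmem⟩ := by
    apply Subtype.ext
    change _ = ((zz ((tr (centralizer {zz J * (x * y)}) J).subgroupOf D) : D) : HQ _) * v
    rw [zz_map hF mJ, map_subgroupOf_eq_of_le hJD]
    exact hprod
  rw [e3, map_mul, e2, mul_one]

namespace Side

variable {u : G} {J J' : Subgroup G}

theorem blk (s : Side Om u J J' x y) (h : TwoE Om) (hty : ∀ K ∈ Om, IsType K)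
    (hp : HasPieces (fam Om (centralizer {u}))) (hc : ¬ TwoWT.Cen u (zz J)) :
    Blk (fam Om (centralizer {u})) (px Om (centralizer {u}) J) (tr (centralizer {u}) J)
      (tr (centralizer {u}) J') := by
  rcases dich h hty hp (s.covJ h hty) (s.covJ' h hty) s.tt.ne s.tt.hz with h1 | h1
  · exact absurd h1.1 hc
  · exact s.toPre.blk h hty hp h1.2.1 h1.2.2

theorem cls (s : Side Om u J J' x y) (h : TwoE Om) (hty : ∀ K ∈ Om, IsType K)
    (hp : HasPieces (fam Om (centralizer {u}))) (hc : ¬ TwoWT.Cen u (zz J)) :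
    ∀ M ∈ fam Om (centralizer {u}), M ≤ px Om (centralizer {u}) J →
      ∃ d ∈ px Om (centralizer {u}) J, Cit.cj d (tr (centralizer {u}) J) = M := by
  have B := s.blk h hty hp hc
  have p := s.ttp h hty
  refine cls_of_piece B (px_piece h.hyp hty hp (s.covJ h hty)) fun q hq1 hq2 iso => ?_
  refine B.exc_false hq1 hq2 iso p.hx p.ox p.hy p.oy fun M hM _ hcon => ?_
  obtain ⟨Q, hQ⟩ := Hyp.exists_syl M
  exact s.noperp h hty M hM ⟨Q, hQ, fun q hq => (hcon q (hQ.1 hq))⟩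

theorem noperp_restr (s : Side Om u J J' x y) (h : TwoE Om) (hty : ∀ K ∈ Om, IsType K)
    {D : Subgroup (HQ (centralizer {u}))} (hx : qm (centralizer {u}) ⟨x, s.ux⟩ ∈ D)
    (hy : qm (centralizer {u}) ⟨y, s.uy⟩ ∈ D) :
    ∀ M ∈ restr (fam Om (centralizer {u})) D, ¬ TwoE.Perp ((⟨_, hx⟩ : D) * ⟨_, hy⟩) M :=
  fun M hM hcon => s.noperp h hty _ hM (perp_of_restr hcon)

theorem not_caseB (s : Side Om u J J' x y) (h : TwoE Om) (hty : ∀ K ∈ Om, IsType K)
    (hp : HasPieces (fam Om (centralizer {u}))) (hc : ¬ TwoWT.Cen u (zz J)) :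
    ¬ CaseB (Fq (fam Om (centralizer {u})) (px Om (centralizer {u}) J)) := by
  have B := s.blk h hty hp hc
  have p := s.ttp h hty
  exact not_caseB_of B.cenC (ttp_restr B.le.hyp p B.KD B.KD') (s.noperp_restr h hty _ _)

theorem not_caseA (s : Side Om u J J' x y) (h : TwoE Om) (hty : ∀ K ∈ Om, IsType K)
    (hp : HasPieces (fam Om (centralizer {u}))) (hc : ¬ TwoWT.Cen u (zz J)) :
    ¬ CaseA (Fq (fam Om (centralizer {u})) (px Om (centralizer {u}) J)) := by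
  have B := s.blk h hty hp hc
  have p := s.ttp h hty
  refine not_caseA_of B.cenC (ttp_restr B.le.hyp p B.KD B.KD') fun M hM he => ?_
  -- `x y = zz M` modulo the centre, so `x y` centralises `M`
  have hyp := B.cenC.two.hyp
  obtain ⟨Q, hQ⟩ := Hyp.exists_syl M
  refine s.noperp_restr h hty (B.KD p.hx) (B.KD' p.hy) M hM ⟨Q, hQ, fun q hq => ?_⟩
  have h1 : (zz M)⁻¹ * ((⟨_, B.KD p.hx⟩ : ↥(px Om (centralizer {u}) J)) * ⟨_, B.KD' p.hy⟩) ∈
      center ↥(px Om (centralizer {u}) J) := by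
    rw [← QuotientGroup.eq_one_iff]
    change Blk.pi _ _ = 1
    rw [map_mul, map_inv, he, inv_mul_cancel]
  have h2 : q * zz M = zz M * q := hyp.comm_zz hM (le_normalizer (hQ.1 hq))
  have h3 := mem_center_iff.1 h1 q
  have e : (⟨_, B.KD p.hx⟩ : ↥(px Om (centralizer {u}) J)) * ⟨_, B.KD' p.hy⟩ =
      zz M * ((zz M)⁻¹ * ((⟨_, B.KD p.hx⟩ : ↥(px Om (centralizer {u}) J)) * ⟨_, B.KD' p.hy⟩)) := by group
  rw [e]
  generalize (zz M)⁻¹ * ((⟨_, B.KD p.hx⟩ : ↥(px Om (centralizer {u}) J)) * ⟨_, B.KD' p.hy⟩) = k at h1 h3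
  calc zz M * k * q = zz M * (k * q) := by group
    _ = zz M * q * k := by rw [← h3]; group
    _ = q * (zz M * k) := by rw [← h2]; group

/-- **the types of `D_v` and `D_u`, modulo the centres** -/
theorem types_q (id2 : IdentTwo.{u}) {K K' J₀ Q Q' QJ : Subgroup G} {x₀ y₀ b c : G} (s : Side Om u J J' x y)
    (h : TwoE Om) (hty : ∀ K ∈ Om, IsType K) (hU : Uni Om) (w : WD Om K K' J₀ Q Q' QJ x₀ y₀ b c)
    (hv : zz J₀ * (x₀ * y₀) ≠ 1) (hpv : HasPieces (fam Om (centralizer {zz J₀ * (x₀ * y₀)})))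
    (hp : HasPieces (fam Om (centralizer {u}))) (hc : ¬ TwoWT.Cen u (zz J)) :
    ∃ q, (TyD (Fq (fam Om (centralizer {zz J₀ * (x₀ * y₀)})) (px Om (centralizer {zz J₀ * (x₀ * y₀)}) K))
        ⊤ q (.A 3) 5 ∧ (TyD (Fq (fam Om (centralizer {u})) (px Om (centralizer {u}) J)) ⊤ q (.C 2) 5 ∨
          TyD (Fq (fam Om (centralizer {u})) (px Om (centralizer {u}) J)) ⊤ q (.C 2) 3)) ∨
      (TyD (Fq (fam Om (centralizer {zz J₀ * (x₀ * y₀)})) (px Om (centralizer {zz J₀ * (x₀ * y₀)}) K))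
        ⊤ q (.C 2) 5 ∧ (TyD (Fq (fam Om (centralizer {u})) (px Om (centralizer {u}) J)) ⊤ q (.A 3) 5 ∨
          TyD (Fq (fam Om (centralizer {u})) (px Om (centralizer {u}) J)) ⊤ q (.C 2) 3)) :=
  typed_pair id2 (blk_v h hty w hpv) (cls_v h hty w hpv hv) (caseA_v h hty w hpv) (s.blk h hty hp hc)
    (s.cls h hty hp hc) (s.not_caseA h hty hp hc) (s.not_caseB h hty hp hc)
    (card_tr_eq hty hU hpv.core hp.core (cov_v_K h hty w) (s.covJ h hty))

/-- **interchanged members**, for a typed block -/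
theorem exists_swapped (s : Side Om u J J' x y) (h : TwoE Om) (hty : ∀ K ∈ Om, IsType K)
    (hp : HasPieces (fam Om (centralizer {u}))) (hc : ¬ TwoWT.Cen u (zz J)) {q k : ℕ} {τ : Nodes.Chart.Ty}
    (hτ : τ = .A 3 ∨ τ = .C 2) (t : TyD (fam Om (centralizer {u})) (px Om (centralizer {u}) J) q τ k) :
    ∃ M ∈ cov Om (centralizer {u}), zz M * (x * y) = x * y * zz M ∧
      Cit.cj (qm (centralizer {u}) ⟨x * y, mul_mem s.ux s.uy⟩) (tr (centralizer {u}) M) ≠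
        tr (centralizer {u}) M := by
  have B := s.blk h hty hp hc
  have p := s.ttp h hty
  have hF := B.le.hyp
  obtain ⟨M₀, hM₀, hM₀D, h1, h2⟩ := swap_of_tyD B hτ t
  have m0 := subgroupOf_mem_restr hM₀ hM₀D
  have mJ := subgroupOf_mem_restr B.hK B.KD
  have e0 := zz_map hF m0
  have eJ := zz_map hF mJ
  rw [map_subgroupOf_eq_of_le hM₀D] at e0
  rw [map_subgroupOf_eq_of_le B.KD] at eJ
  obtain ⟨M₁, hM₁, h3, h4⟩ := TwoTy.exists_swapped B.twoE (fun N hN => (Ty.restr B.ty _ N hN).isType.tyTwo)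
    (ttp_restr hF p B.KD B.KD') (s.noperp_restr h hty _ _) m0 (by
      apply Subtype.ext
      rw [Subgroup.coe_mul, Subgroup.coe_mul, e0, eJ]
      exact h1) (by
      rw [← cj_subgroupOf, e0, h2])
  -- back to `G`
  have hM₁' : M₁.map (px Om (centralizer {u}) J).subtype ∈ fam Om (centralizer {u}) := hM₁
  have h5 : zz (M₁.map (px Om (centralizer {u}) J).subtype) *
      (qm (centralizer {u}) ⟨x, s.ux⟩ * qm (centralizer {u}) ⟨y, s.uy⟩) =
      (qm (centralizer {u}) ⟨x, s.ux⟩ * qm (centralizer {u}) ⟨y, s.uy⟩) *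
        zz (M₁.map (px Om (centralizer {u}) J).subtype) := by
    rw [← zz_map hF hM₁]
    exact congrArg Subtype.val h3
  have h6 : Cit.cj (qm (centralizer {u}) ⟨x, s.ux⟩ * qm (centralizer {u}) ⟨y, s.uy⟩)
      (M₁.map (px Om (centralizer {u}) J).subtype) ≠ M₁.map (px Om (centralizer {u}) J).subtype := by
    intro h7
    apply h4
    apply map_injective (px Om (centralizer {u}) J).subtype_injective
    rw [cj_map]
    exact h7
  obtain ⟨M₂, hM₂, e2⟩ := exists_tr hM₁'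
  rw [← e2] at h5 h6
  have hxyH : x * y ∈ centralizer {u} := mul_mem s.ux s.uy
  have exy : qm (centralizer {u}) ⟨x, s.ux⟩ * qm (centralizer {u}) ⟨y, s.uy⟩ =
      qm (centralizer {u}) ⟨x * y, hxyH⟩ := by rw [← map_mul]; rfl
  rw [exy] at h5 h6
  have hsq := s.tt.sq h.hyp
  have hq2 : qm (centralizer {u}) ⟨x * y, hxyH⟩ * qm (centralizer {u}) ⟨x * y, hxyH⟩ = 1 := by
    rw [← map_mul]
    have : (⟨x * y, hxyH⟩ : ↥(centralizer {u})) * ⟨x * y, hxyH⟩ = 1 := Subtype.ext hsq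
    rw [this, map_one]
  have hzt := zz_tr h.hyp hty hM₂
  have hR : IsPGroup 2 (zpowers (qm (centralizer {u}) ⟨x * y, hxyH⟩) ⊔ zpowers (zz (tr (centralizer {u}) M₂)) :
      Subgroup (HQ (centralizer {u}))) := by
    refine (isP_inv hq2).to_sup_of_normal_right' (isP_inv (hF.zz_mul (tr_mem hM₂))) ?_
    rw [zpowers_le]
    refine mem_normalizer_of_cent ?_
    rintro _ ⟨k, rfl⟩
    exact ((show Commute (zz (tr (centralizer {u}) M₂)) _ from h5).zpow_left k).eq.symm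
  obtain ⟨T, hT, htT, hTR⟩ := exists_lift_mem hxyH hsq hR (mem_sup_left (mem_zpowers _))
  obtain ⟨m, hmT, hm⟩ : ∃ m ∈ T, qm (centralizer {u}) m = zz (tr (centralizer {u}) M₂) := by
    have : zz (tr (centralizer {u}) M₂) ∈ T.map (qm (centralizer {u})) := by
      rw [hTR]; exact mem_sup_right (mem_zpowers _)
    exact this
  have hT' : IsPGroup 2 (T.map (centralizer {u}).subtype) := hT.map _
  have hmm : (m : G) * m = 1 := by
    refine eq_one_of_mem_OO hT' (H := centralizer {u}) ⟨m * m, mul_mem hmT hmT, rfl⟩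
      ((qm_eq_one_iff (g := m * m)).1 ?_)
    rw [map_mul, hm, hF.zz_mul (tr_mem hM₂)]
  obtain ⟨o, ho, ho'⟩ := exists_odd_conj m.2 (zz_mem_of_cov h.hyp hM₂) hmm (h.hyp.zz_mul hM₂.1) (by
    rw [← hzt, ← hm])
  have hM : Cit.cj (o : G) M₂ ∈ cov Om (centralizer {u}) := cj_mem_cov' h.hyp hM₂ o.2
  have hzM : zz (Cit.cj (o : G) M₂) = m := by rw [h.hyp.zz_cj hM₂.1, ho']
  have htM : tr (centralizer {u}) (Cit.cj (o : G) M₂) = tr (centralizer {u}) M₂ := by
    rw [tr_cj hty o hM₂, ho, cj_one]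
  refine ⟨Cit.cj (o : G) M₂, hM, ?_, ?_⟩
  · rw [hzM]
    have h7 : qm (centralizer {u}) (m * ⟨x * y, hxyH⟩ * m⁻¹ * (⟨x * y, hxyH⟩ : ↥(centralizer {u}))⁻¹) = 1 := by
      rw [map_mul, map_mul, map_mul, map_inv, map_inv, hm, h5, mul_inv_cancel_right, mul_inv_cancel]
    have h8 : (m : G) * (x * y) * (m : G)⁻¹ * (x * y)⁻¹ = 1 := by
      refine eq_one_of_mem_OO hT' (H := centralizer {u}) ?_ (qm_eq_one_iff.1 h7)
      exact ⟨m * ⟨x * y, hxyH⟩ * m⁻¹ * (⟨x * y, hxyH⟩ : ↥(centralizer {u}))⁻¹,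
        mul_mem (mul_mem (mul_mem hmT htT) (inv_mem hmT)) (inv_mem htT), rfl⟩
    rw [mul_inv_eq_one, mul_inv_eq_iff_eq_mul] at h8
    exact h8
  · rw [htM]
    exact h6

end Side

end sides

end Cfsg.Agent.Cit.TwoTy
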