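import Cfsg.Agent.Cit.TwoTy.TypesB

/-!
# The types of branch (B): `TypesB` without further input
-/

set_option autoImplicit false

namespace Cfsg.Agent.Cit.TwoTy.TypesEnd

open Subgroup Cfsg Cfsg.Agent.Cit Cfsg.Agent.Cit.TwoTy
open Cfsg.Agent.Cit.CoreTwoEqId (IdentTwo)

universe u

/-- **`TypesB`** -/
theorem typesB (id2 : IdentTwo.{u}) (hodd : CoresG.OddStmt.{u})
    (hB : ∀ (X : Type u) [Group X] [Finite X] [IsSimpleGroup X], CloEnd.Bend X)
    (hC : ∀ (X : Type u) [Group X] [Finite X] [IsSimpleGroup X], CloEnd.Crit1175 X) : OmB3.BIn.TypesB.{u} :=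
  TwoTy.typesB id2 hodd hB hC

end Cfsg.Agent.Cit.TwoTy.TypesEnd
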