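import Cfsg.Agent.Cit.TwoTy.Typed
import Cfsg.Agent.Cit.TwoTy.Lift

/-!
# The types of branch (B) in `C(u) / O(C(u))` (R18, Z3)

* `Side.all` : all members covered by `C(u)` are in the piece of `J`;
* `tyD_lift` : `TyD` modulo the centre lifts to the block;
* `exists_cut` : a member covered by `C(t)` moved by `z` modulo `O(C(t))` (no hypothesis on the cores);
* `typesQ` : the types of the pieces of `C(v)`, `C(z v)`; `cut_of_core` : the moved member if the cores are trivial.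
-/

set_option autoImplicit false
set_option linter.style.haveILetI false
set_option linter.unusedSectionVars false

namespace Cfsg.Agent.Cit.TwoTy

open Subgroup Cfsg OneBasic SubCent UseT TwoWT TwoBlk
open Cfsg.Agent.Cit.CoreTwoEq (CaseA CaseB L4 U4 Sp4)
open Cfsg.Agent.Cit.CoreTwoEqId (IdentTwo)
open Cfsg.Agent.Cit.TwoFK (TwoEq)
open Cfsg.Agent.Cit.TwoBlk.Blk (Fq)
open Cfsg.Agent.Nodes.Chart

universe u

theorem tyD_lift {X : Type u} [Group X] [Finite X] {F : Set (Subgroup X)} {D K K' : Subgroup X}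
    (b : Blk F D K K') {q k : ℕ} {τ : Nodes.Chart.Ty} (t : TyD (Fq F D) ⊤ q τ k) : TyD F D q τ k :=
  TyD.lift b.le.hyp b.qs b.cen (fun J hJ _ => (b.ty J hJ).isType.tyTwo) (fun _ hJ => b.inf_center hJ) t

variable {G : Type u} [Group G] [Finite G] {Om : Set (Subgroup G)}

theorem Side.all {u x y : G} {J J' : Subgroup G} (s : Side Om u J J' x y) (h : TwoE Om)
    (hty : ∀ K ∈ Om, IsType K) (hp : HasPieces (fam Om (centralizer {u}))) (hc : ¬ TwoWT.Cen u (zz J)) :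
    ∀ M ∈ cov Om (centralizer {u}), px Om (centralizer {u}) M = px Om (centralizer {u}) J := by
  rcases dich h hty hp (s.covJ h hty) (s.covJ' h hty) s.tt.ne s.tt.hz with h1 | h1
  · exact absurd h1.1 hc
  · exact h1.2.2

section conf

variable {K K' J Q Q' QJ : Subgroup G} {x y b c : G}

/-- **E-EXIST** (any cores) -/
theorem exists_cut (id2 : IdentTwo.{u}) (h : TwoE Om) (hty : ∀ K ∈ Om, IsType K) (hU : Uni Om)
    (w : WD Om K K' J Q Q' QJ x y b c) (hv : zz J * (x * y) ≠ 1)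
    (hpv : HasPieces (fam Om (centralizer {zz J * (x * y)}))) (hpt : HasPieces (fam Om (centralizer {x * y})))
    (hc : ¬ TwoWT.Cen (x * y) (zz J)) :
    ∃ M ∈ cov Om (centralizer {x * y}), zz M * zz K = zz K * zz M ∧
      ∀ hz : zz K ∈ centralizer {x * y},
        cj (qm (centralizer {x * y}) ⟨zz K, hz⟩) (tr (centralizer {x * y}) M) ≠ tr (centralizer {x * y}) M := by
  obtain ⟨J₁, J₁', x₁, y₁, s, hzJ, hprod⟩ := side_t h hty w
  have hc' : ¬ TwoWT.Cen (x * y) (zz J₁) := by rw [hzJ]; exact hc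
  have B := s.blk h hty hpt hc'
  obtain ⟨q, k, τ, hτ, t⟩ : ∃ (q k : ℕ) (τ : Nodes.Chart.Ty), (τ = .A 3 ∨ τ = .C 2) ∧
      TyD (Fq (fam Om (centralizer {x * y})) (px Om (centralizer {x * y}) J₁)) ⊤ q τ k := by
    obtain ⟨q, ⟨-, t | t⟩ | ⟨-, t | t⟩⟩ := s.types_q id2 h hty hU w hv hpv hpt hc'
    · exact ⟨q, _, _, Or.inr rfl, t⟩
    · exact ⟨q, _, _, Or.inr rfl, t⟩
    · exact ⟨q, _, _, Or.inl rfl, t⟩
    · exact ⟨q, _, _, Or.inr rfl, t⟩
  obtain ⟨M, hM, h1, h2⟩ := s.exists_swapped h hty hpt hc' hτ (tyD_lift B t)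
  have htM : zz M * (x * y) = x * y * zz M :=
    mem_centralizer_singleton_iff.1 (zz_mem_of_cov h.hyp hM)
  have hsq := w.tt.sq h.hyp
  have hzt := w.zt h.hyp
  refine ⟨M, hM, ?_, fun hz he => h2 ?_⟩
  · -- `zz K = (x y) (x y zz K)`
    have e : zz K = (x * y) * (x * y * zz K) := by rw [← mul_assoc, hsq, one_mul]
    rw [hprod] at h1
    calc zz M * zz K = (zz M * (x * y)) * (x * y * zz K) := by
          conv_lhs => rw [e]
          group
      _ = (x * y) * (zz M * (x * y * zz K)) := by rw [htM]; group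
      _ = (x * y) * (x * y * zz K) * zz M := by rw [h1]; group
      _ = zz K * zz M := by rw [← e]
  · have htH : x * y ∈ centralizer {x * y} := mem_centralizer_singleton_iff.2 rfl
    have e1 : qm (centralizer {x * y}) ⟨x₁ * y₁, mul_mem s.ux s.uy⟩ =
        qm (centralizer {x * y}) ⟨zz K, hz⟩ * qm (centralizer {x * y}) ⟨x * y, htH⟩ := by
      rw [← map_mul]
      congr 1
      apply Subtype.ext
      change x₁ * y₁ = zz K * (x * y)
      rw [hprod, hzt]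
    have e2 : cj (qm (centralizer {x * y}) ⟨x * y, htH⟩) (tr (centralizer {x * y}) M) =
        tr (centralizer {x * y}) M := by
      rw [← mem_normalizer_iff_cj]
      exact mem_normalizer_of_cent fun a _ => (comm_qv a).symm
    rw [e1, cj_mul, e2, he]

/-- the three possibilities for the types of `D_v`, `D_a` -/
def Cases (k : ℕ) (τ τ' : Nodes.Chart.Ty) : Prop :=
  (k = 3 ∧ τ' = .C 2 ∧ (τ = .A 3 ∨ τ = .C 2)) ∨ (k = 5 ∧ τ = .A 3 ∧ τ' = .C 2) ∨ (k = 5 ∧ τ = .C 2 ∧ τ' = .A 3)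

/-- **the types in `C(u) / O(C(u))`**, `u = v`, `u = z v` (any cores), modulo the centres -/
theorem types_v_a (id2 : IdentTwo.{u}) (h : TwoE Om) (hty : ∀ K ∈ Om, IsType K) (hU : Uni Om)
    (w : WD Om K K' J Q Q' QJ x y b c) (hv : zz J * (x * y) ≠ 1)
    (hpv : HasPieces (fam Om (centralizer {zz J * (x * y)})))
    (hpa : HasPieces (fam Om (centralizer {zz K * (zz J * (x * y))})))
    (hca : ¬ TwoWT.Cen (zz K * (zz J * (x * y))) (zz K)) :
    ∃ (q k : ℕ) (τ τ' : Nodes.Chart.Ty), Cases k τ τ' ∧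
      TyD (Fq (fam Om (centralizer {zz J * (x * y)})) (px Om (centralizer {zz J * (x * y)}) K)) ⊤ q τ 5 ∧
      TyD (Fq (fam Om (centralizer {zz K * (zz J * (x * y))}))
        (px Om (centralizer {zz K * (zz J * (x * y))}) K)) ⊤ q τ' k := by
  obtain ⟨q, ⟨tv, ta | ta⟩ | ⟨tv, ta | ta⟩⟩ := (side_a h hty w).types_q id2 h hty hU w hv hpv hpa hca
  · exact ⟨q, _, _, _, Or.inr (Or.inl ⟨rfl, rfl, rfl⟩), tv, ta⟩
  · exact ⟨q, _, _, _, Or.inl ⟨rfl, rfl, Or.inl rfl⟩, tv, ta⟩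
  · exact ⟨q, _, _, _, Or.inr (Or.inr ⟨rfl, rfl, rfl⟩), tv, ta⟩
  · exact ⟨q, _, _, _, Or.inl ⟨rfl, rfl, Or.inr rfl⟩, tv, ta⟩

theorem Cases.or {k : ℕ} {τ τ' : Nodes.Chart.Ty} (h : Cases k τ τ') :
    (τ = .A 3 ∨ τ = .C 2) ∧ (τ' = .A 3 ∨ τ' = .C 2) := by
  rcases h with ⟨-, h1, h2⟩ | ⟨-, h1, h2⟩ | ⟨-, h1, h2⟩
  · exact ⟨h2, Or.inr h1⟩
  · exact ⟨Or.inl h1, Or.inr h2⟩
  · exact ⟨Or.inr h1, Or.inl h2⟩

/-- the facts about the elements `v`, `z v`, `t` -/
structure Nz (Om : Set (Subgroup G)) (K J : Subgroup G) (x y : G) : Prop where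
  v : zz J * (x * y) ≠ 1
  a : zz K * (zz J * (x * y)) ≠ 1
  t : x * y ≠ 1

theorem nz (h : TwoE Om) (hA : ¬ CaseA Om) (w : WD Om K K' J Q Q' QJ x y b c) : Nz Om K J x y := by
  have hZ : ∀ K K' x y, TTp Om K K' x y → ∀ M ∈ Om, x * y ≠ zz M := fun K K' x y p M hM he =>
    hA ⟨K, K', x, y, p, M, hM, he⟩
  have hzK := h.hyp.zz_mul w.tt.hK
  refine ⟨w.v_ne h hZ, fun he => ?_, TTp_ne_one h w.tt⟩
  apply w.v_ne_zz h hZ w.tt.hK
  calc zz J * (x * y) = (zz K * zz K) * (zz J * (x * y)) := by rw [hzK, one_mul]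
    _ = zz K * (zz K * (zz J * (x * y))) := by group
    _ = zz K := by rw [he, mul_one]

/-- **the types in `C(u) / O(C(u))`**, `u = v`, `u = z v` -/
theorem typesQ (id2 : IdentTwo.{u}) (hm : MinS Om) (h : TwoE Om) (hA : ¬ CaseA Om)
    (w : WD Om K K' J Q Q' QJ x y b c) (hc : ¬ TwoWT.Cen (x * y) (zz J)) :
    ∃ (q k : ℕ) (τ τ' : Nodes.Chart.Ty), Cases k τ τ' ∧
      TyD (fam Om (centralizer {zz J * (x * y)})) (px Om (centralizer {zz J * (x * y)}) K) q τ 5 ∧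
      TyD (fam Om (centralizer {zz K * (zz J * (x * y))})) (px Om (centralizer {zz K * (zz J * (x * y))}) K)
        q τ' k := by
  have n := nz h hA w
  have hca : ¬ TwoWT.Cen (zz K * (zz J * (x * y))) (zz K) := fun h1 => hc ((cen_iff h w).2 h1)
  have hpv := hm.fam_cent n.v
  have hpa := hm.fam_cent n.a
  obtain ⟨q, k, τ, τ', h1, h2, h3⟩ := types_v_a id2 h hm.isType hm.uni w n.v hpv hpa hca
  exact ⟨q, k, τ, τ', h1, tyD_lift (blk_v h hm.isType w hpv) h2,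
    tyD_lift ((side_a h hm.isType w).blk h hm.isType hpa hca) h3⟩

/-- E-EXIST for a minimal counterexample -/
theorem exists_cut' (id2 : IdentTwo.{u}) (hm : MinS Om) (h : TwoE Om) (hA : ¬ CaseA Om)
    (w : WD Om K K' J Q Q' QJ x y b c) (hc : ¬ TwoWT.Cen (x * y) (zz J)) :
    ∃ M ∈ cov Om (centralizer {x * y}), zz M * zz K = zz K * zz M ∧
      ∀ hz : zz K ∈ centralizer {x * y},
        cj (qm (centralizer {x * y}) ⟨zz K, hz⟩) (tr (centralizer {x * y}) M) ≠ tr (centralizer {x * y}) M := by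
  have n := nz h hA w
  exact exists_cut id2 h hm.isType hm.uni w n.v (hm.fam_cent n.v) (hm.fam_cent n.t) hc

/-- **the moved member** if the cores are trivial -/
theorem cut_of_core (id2 : IdentTwo.{u}) (hm : MinS Om) (h : TwoE Om) (hA : ¬ CaseA Om)
    (hO : ∀ K ∈ Om, OO K = ⊥) (w : WD Om K K' J Q Q' QJ x y b c) (hc : ¬ TwoWT.Cen (x * y) (zz J)) :
    ∃ M ∈ Om, M ≤ centralizer {x * y} ∧ zz M * zz K = zz K * zz M ∧ cj (zz K) M ≠ M := by
  obtain ⟨M, hM, h3, h4⟩ := exists_cut' id2 hm h hA w hc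
  have hMC : M ≤ centralizer {x * y} := by
    have h5 := ((mem_cov_cent h.hyp (b := x * y) (a := 1) (by rw [pow_one, pow_two, w.tt.sq h.hyp])).1 hM).2
    intro m hm
    have h6 := h5 m hm
    rw [hO M hM.1, mem_bot, mul_inv_eq_one, mul_inv_eq_iff_eq_mul] at h6
    exact mem_centralizer_singleton_iff.2 h6
  refine ⟨M, hM.1, hMC, h3, fun he => ?_⟩
  have hz : zz K ∈ centralizer {x * y} := mem_centralizer_singleton_iff.2 (w.zt h.hyp)
  apply h4 hz
  rw [← tr_cj hm.isType ⟨zz K, hz⟩ hM]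
  change tr (centralizer {x * y}) (cj (zz K) M) = _
  rw [he]

end conf

end Cfsg.Agent.Cit.TwoTy
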